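import Cfsg.Agent.Coset.Fi22.ThreeTransp
import Cfsg.Agent.Comp.Basic
import Cfsg.Agent.Quad.POmega

/-!
The centraliser of a transposition of the presented group `Cfsg.Spor.Fi22`.
-/

set_option autoImplicit false
set_option linter.unusedSectionVars false
set_option linter.style.haveILetI false
set_option maxRecDepth 100000

namespace CfsgLib.TC23

open CfsgLib
open CfsgLib.Coset (ev fl ev_cons ev_nil follow tget checkLetters)
open scoped commutatorElement

/-- The transposition. -/
noncomputable abbrev t22 : Cfsg.Spor.Fi22 := Coset.Fi22.t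

/-- Its centraliser. -/
noncomputable abbrev C22 : Subgroup Cfsg.Spor.Fi22 := Subgroup.centralizer ({t22} : Set Cfsg.Spor.Fi22)

theorem quasisimple_H : Cfsg.IsQuasisimple ↥Coset.Fi22.H := by
  haveI := Unitary.isSimpleGroup_PSU (F := Coset.G24.F4) Coset.U62.hF (n := 6) (by norm_num) (by omega)
  obtain ⟨hc2, ⟨e⟩, hno⟩ := Coset.U62.isDoubleCover
  haveI : Nontrivial (↥Coset.Fi22.H ⧸ Subgroup.center ↥Coset.Fi22.H) := e.toEquiv.nontrivial
  refine ⟨⟨?_⟩, IsSimpleGroup.isSimpleGroup_of_surjective e.symm.toMonoidHom e.symm.surjective⟩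
  set Z := Subgroup.center ↥Coset.Fi22.H
  set K := commutator ↥Coset.Fi22.H
  haveI : K.Normal := inferInstance
  have hne : commutator (↥Coset.Fi22.H ⧸ Z) = ⊤ := by
    haveI : IsSimpleGroup (↥Coset.Fi22.H ⧸ Z) :=
      IsSimpleGroup.isSimpleGroup_of_surjective e.symm.toMonoidHom e.symm.surjective
    refine (inferInstance : (commutator (↥Coset.Fi22.H ⧸ Z)).Normal).eq_bot_or_eq_top.resolve_left fun h => ?_
    letI : CommGroup (↥Coset.Fi22.H ⧸ Z) := { (inferInstance : Group (↥Coset.Fi22.H ⧸ Z)) with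
      mul_comm := fun x y => by
        have : ⁅x, y⁆ ∈ commutator (↥Coset.Fi22.H ⧸ Z) :=
          Subgroup.commutator_mem_commutator (Subgroup.mem_top x) (Subgroup.mem_top y)
        rw [h, Subgroup.mem_bot, commutatorElement_eq_one_iff_mul_comm] at this
        exact this }
    have hp := IsSimpleGroup.prime_card (α := ↥Coset.Fi22.H ⧸ Z)
    rw [Nat.card_congr e.toEquiv, Coset.U62.card_PSU] at hp
    revert hp
    norm_num
  have hsup : K ⊔ Z = ⊤ := by
    have h1 : K.map (QuotientGroup.mk' Z) = ⊤ := by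
      rw [← hne]
      show (commutator ↥Coset.Fi22.H).map (QuotientGroup.mk' Z) = _
      rw [commutator_def, commutator_def, Subgroup.map_commutator,
        Subgroup.map_top_of_surjective _ (QuotientGroup.mk'_surjective Z)]
    have := congrArg (Subgroup.comap (QuotientGroup.mk' Z)) h1
    rwa [Subgroup.comap_map_eq, QuotientGroup.ker_mk', Subgroup.comap_top] at this
  by_contra hK
  refine hno K ?_
  haveI : Finite ↥Z := Nat.finite_of_card_ne_zero (by rw [hc2]; norm_num)
  obtain ⟨a, b, hab, huniv⟩ := Nat.card_eq_two_iff.1 hc2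
  have hdisj : Disjoint Z K := by
    rw [disjoint_iff, Subgroup.eq_bot_iff_forall]
    rintro w ⟨hwZ, hwK⟩
    by_contra hw
    have : Z ≤ K := by
      intro v hv
      by_cases hv1 : v = 1
      · exact hv1 ▸ one_mem K
      have h3 : ∀ u : ↥Z, u = a ∨ u = b := fun u => by
        have : u ∈ ({a, b} : Set ↥Z) := huniv ▸ Set.mem_univ u
        exact this
      have key : (⟨v, hv⟩ : ↥Z) = ⟨w, hwZ⟩ := by
        rcases h3 ⟨v, hv⟩ with p | p <;> rcases h3 ⟨w, hwZ⟩ with q | q <;> rcases h3 1 with r | r <;>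
          first
            | exact p.trans q.symm
            | exact absurd (congrArg Subtype.val (p.trans r.symm)) hv1
            | exact absurd (congrArg Subtype.val (q.trans r.symm)) hw
      rw [show v = w from congrArg Subtype.val key]
      exact hwK
    exact hK (by rw [← hsup, sup_eq_left.2 this])
  refine Subgroup.isComplement'_of_disjoint_and_mul_eq_univ hdisj ?_
  rw [← Subgroup.mul_normal, sup_comm, hsup, Subgroup.coe_top]

theorem quasisimple_C22 : Cfsg.IsQuasisimple ↥C22 :=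
  Comp.isQuasisimple_of_equiv (MulEquiv.subgroupCongr Coset.Fi22.centralizer_t.symm) quasisimple_H

theorem zpowers_eq : (Subgroup.zpowers t22).subgroupOf C22 = Subgroup.center ↥C22 := by
  have hmem : t22 ∈ C22 := Subgroup.mem_centralizer_singleton_iff.2 rfl
  obtain ⟨hc2, -, -⟩ := Coset.U62.isDoubleCover
  let i : ↥Coset.Fi22.H ≃* ↥C22 := MulEquiv.subgroupCongr Coset.Fi22.centralizer_t.symm
  have hc : Nat.card ↥(Subgroup.center ↥C22) = 2 := by
    rw [← Quad.map_center_equiv i, Subgroup.card_map_of_injective i.injective, hc2]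
  haveI : Finite ↥(Subgroup.center ↥C22) := Nat.finite_of_card_ne_zero (by rw [hc]; norm_num)
  refine Subgroup.eq_of_le_of_card_ge (fun v hv => ?_) ?_
  · refine Subgroup.mem_center_iff.2 fun w => Subtype.ext ?_
    have hv' : (v : Cfsg.Spor.Fi22) ∈ Subgroup.zpowers t22 := Subgroup.mem_subgroupOf.1 hv
    obtain ⟨k, hk⟩ := Subgroup.mem_zpowers_iff.1 hv'
    show (w : Cfsg.Spor.Fi22) * v = v * w
    rw [← hk]
    exact (show Commute (w : Cfsg.Spor.Fi22) t22 from Subgroup.mem_centralizer_singleton_iff.1 w.2).zpow_right k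
  · rw [hc, Nat.card_congr (Subgroup.subgroupOfEquivOfLe (Subgroup.zpowers_le.2 hmem)).toEquiv, Nat.card_zpowers,
      Coset.Fi22.orderOf_t]

theorem quot_C22 [((Subgroup.zpowers t22).subgroupOf C22).Normal] :
    Nonempty (↥C22 ⧸ (Subgroup.zpowers t22).subgroupOf C22 ≃* Cfsg.PSU 6 Coset.G24.F4 2) := by
  obtain ⟨-, ⟨e⟩, -⟩ := Coset.U62.isDoubleCover
  let i : ↥Coset.Fi22.H ≃* ↥C22 := MulEquiv.subgroupCongr Coset.Fi22.centralizer_t.symm
  exact ⟨(QuotientGroup.quotientMulEquivOfEq zpowers_eq).trans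
    ((QuotientGroup.congr _ _ i (Quad.map_center_equiv i)).symm.trans e)⟩

theorem check02 : Nat.beq (follow (tget Coset.Fi22.Top.Tb) 1 [0]) (follow (tget Coset.Fi22.Top.Tb) 1 [2]) = false := by
  decide +kernel

theorem two_ne_t : fl Coset.Fi22.Lg 2 ≠ t22 := by
  intro h
  have h1 : ev Coset.Fi22.Lg [2] = ev Coset.Fi22.Lg [0] := by rw [ev_cons, ev_nil, mul_one, h]; rfl
  have hl : ∀ l ∈ [2], l < (Coset.Fi22.Lg).length := by decide +kernel
  have hl' : ∀ l ∈ [0], l < (Coset.Fi22.Lg).length := by decide +kernel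
  have h2 := Coset.Fi22.matches_ρ.follow_eq _ (1 : Fin 3510) hl
  rw [h1, Coset.Fi22.matches_ρ.follow_eq _ (1 : Fin 3510) hl'] at h2
  have hn := check02
  rw [show ((1 : Fin 3510) : Nat) = 1 from rfl] at h2
  rw [h2] at hn
  simp at hn

theorem two_comm_t : Commute (fl Coset.Fi22.Lg 2) t22 := by
  have ht : t22 = fl Coset.Fi22.Lg 0 := by show ev Coset.Fi22.Lg [0] = _; simp
  rw [ht]
  have h := Coset.Fi22.ev_rels [0, 2, 0, 2] (by decide +kernel)
  simp only [ev_cons, ev_nil, mul_one] at h
  set a := fl Coset.Fi22.Lg 0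
  set b := fl Coset.Fi22.Lg 2
  have ha : a * a = 1 := Coset.Fi22.sq_all 0
  have hb : b * b = 1 := Coset.Fi22.sq_all 2
  show b * a = a * b
  calc b * a = (a * a) * (b * a) := by rw [ha, one_mul]
    _ = a * (a * (b * (a * b))) * b := by
        calc a * a * (b * a) = a * a * (b * a) * (b * b) := by rw [hb, mul_one]
          _ = _ := by simp only [mul_assoc]
    _ = a * b := by rw [h, mul_one]

end CfsgLib.TC23
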