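import Cfsg.Agent.TC23.Main
import Cfsg.Agent.TC23.Fi22Facts
import Cfsg.Agent.Spor3T.M23Iso
import Cfsg.Agent.Spor3T.M22Transport

/-!
An involution centraliser with quotient the presented group `Fi22` gives the presented group `Fi23`.
-/

set_option autoImplicit false
set_option linter.unusedSectionVars false
set_option linter.style.haveILetI false
set_option maxRecDepth 100000

namespace CfsgLib.TC23

open CfsgLib
open CfsgLib.ThreeT CfsgLib.ThreeT.Prod CfsgLib.DoubleM22

universe u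

theorem class_map {Q Q' : Type*} [Group Q] [Group Q'] (e : Q ≃* Q') {D : Set Q}
    (h : Cfsg.IsThreeTranspositionClass D) : Cfsg.IsThreeTranspositionClass (e '' D) := by
  obtain ⟨⟨h1, h2⟩, ⟨a, ha, hDa⟩, hgen⟩ := h
  refine ⟨⟨?_, ?_⟩, ⟨e a, ⟨a, ha, rfl⟩, ?_⟩, ?_⟩
  · rintro _ ⟨x, hx, rfl⟩
    rw [MulEquiv.orderOf_eq]; exact h1 x hx
  · rintro _ ⟨x, hx, rfl⟩ _ ⟨y, hy, rfl⟩
    rcases h2 x hx y hy with q | q
    · left; rw [← map_mul, ← map_pow, q, map_one]
    · right; rw [← map_mul, ← map_pow, q, map_one]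
  · ext y
    constructor
    · rintro ⟨x, hx, rfl⟩
      rw [hDa] at hx
      obtain ⟨g, rfl⟩ := isConj_iff.1 hx
      exact isConj_iff.2 ⟨e g, by simp⟩
    · intro hy
      obtain ⟨g, rfl⟩ := isConj_iff.1 hy
      refine ⟨e.symm g * a * (e.symm g)⁻¹, ?_, by simp⟩
      rw [hDa]; exact isConj_iff.2 ⟨_, rfl⟩
  · show Subgroup.closure (e.toMonoidHom '' D) = ⊤
    rw [← MonoidHom.map_closure, hgen, Subgroup.map_top_of_surjective _ e.surjective]

theorem fi22_class : Cfsg.IsThreeTranspositionClass (conjugatesOf t22) := Coset.Fi22.threeTransp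

theorem fi22_nwc : ∃ g : Cfsg.Spor.Fi22, g * t22 * g⁻¹ ∈ C22 ∧ g * t22 * g⁻¹ ≠ t22 := by
  obtain ⟨g, hg⟩ := isConj_iff.1 (fi22_gen_conj (l := 2) (by norm_num))
  refine ⟨g, ?_, ?_⟩
  · rw [hg]; exact Subgroup.mem_centralizer_singleton_iff.2 two_comm_t
  · rw [hg]; exact two_ne_t

/-- Recognition of `Fi23`, given that `Fi22` is of type M(22). -/
theorem iso_fi23 {G : Type u} [Group G] [Finite G] (d : G) (hd : orderOf d = 2)
    (hq : Cfsg.IsQuasisimple (Subgroup.centralizer ({d} : Set G)))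
    [hzn : ((Subgroup.zpowers d).subgroupOf (Subgroup.centralizer ({d} : Set G))).Normal]
    (e : Cfsg.Spor.IsoFi22 (↥(Subgroup.centralizer ({d} : Set G)) ⧸
      (Subgroup.zpowers d).subgroupOf (Subgroup.centralizer ({d} : Set G))))
    (hnwc : ∃ g : G, g * d * g⁻¹ ∈ Subgroup.centralizer ({d} : Set G) ∧ g * d * g⁻¹ ≠ d)
    (ht : Cfsg.IsOfTypeM22 Cfsg.Spor.Fi22 (conjugatesOf t22)) : Cfsg.Spor.IsoFi23 G := by
  classical
  obtain ⟨e⟩ := e
  let Z := (Subgroup.zpowers d).subgroupOf (Subgroup.centralizer ({d} : Set G))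
  let ψ : ↥(Subgroup.centralizer ({d} : Set G)) →* ↥(Subgroup.centralizer ({d} : Set G)) ⧸ Z := QuotientGroup.mk' Z
  have hψ : Function.Surjective ψ := QuotientGroup.mk'_surjective Z
  have hdC : d ∈ (Subgroup.centralizer ({d} : Set G)) := Subgroup.mem_centralizer_singleton_iff.2 rfl
  set E := e.symm '' conjugatesOf t22 with hEdef
  have hE : Cfsg.IsThreeTranspositionClass E := class_map e.symm fi22_class
  have h22 : Cfsg.IsOfTypeM22 _ E := type22_map e.symm _ ht
  have hperf : commutator ↥(Subgroup.centralizer ({d} : Set G)) = ⊤ := hq.1.commutator_eq_top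
  have hQperf := CfsgLib.ThreeT.M22Double.perfect_of_surjective ψ hψ hperf
  haveI : IsSimpleGroup Cfsg.Spor.Fi22 := Coset.Fi22.isSimple
  haveI hQs : IsSimpleGroup (↥(Subgroup.centralizer ({d} : Set G)) ⧸ Z) := by
    haveI : Nontrivial (↥(Subgroup.centralizer ({d} : Set G)) ⧸ Z) := e.toEquiv.nontrivial
    exact IsSimpleGroup.isSimpleGroup_of_surjective e.symm.toMonoidHom e.symm.surjective
  obtain ⟨e₀, he₀, c₀, hc₀, hnc, -⟩ := id h22.2
  haveI hsimple : IsSimpleGroup (commutator (↥(Subgroup.centralizer ({d} : Set G)) ⧸ Z)) := by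
    rw [hQperf]
    exact IsSimpleGroup.isSimpleGroup_of_surjective
      (Subgroup.topEquiv (G := ↥(Subgroup.centralizer ({d} : Set G)) ⧸ Z)).symm.toMonoidHom
      (Subgroup.topEquiv (G := ↥(Subgroup.centralizer ({d} : Set G)) ⧸ Z)).symm.surjective
  have hcomm : ¬ ∀ a b : ↥(Subgroup.centralizer ({d} : Set G)) ⧸ Z, a * b = b * a := fun h => hnc (h _ _)
  have hnonab : ∃ x y : commutator (↥(Subgroup.centralizer ({d} : Set G)) ⧸ Z), x * y ≠ y * x :=
    ⟨⟨e₀, hQperf ▸ Subgroup.mem_top _⟩, ⟨c₀, hQperf ▸ Subgroup.mem_top _⟩, fun h => hnc (congrArg Subtype.val h)⟩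
  have hsol : ∀ N : Subgroup (↥(Subgroup.centralizer ({d} : Set G)) ⧸ Z), N.Normal → Group.IsSolvable N → N = ⊥ :=
    fun N hN hs => hN.eq_bot_or_eq_top.resolve_right fun h => hcomm (by
      subst h
      haveI : Group.IsSolvable (↥(Subgroup.centralizer ({d} : Set G)) ⧸ Z) :=
        solvable_of_surjective (f := (Subgroup.topEquiv (G := ↥(Subgroup.centralizer ({d} : Set G)) ⧸ Z)).toMonoidHom)
          (Subgroup.topEquiv (G := ↥(Subgroup.centralizer ({d} : Set G)) ⧸ Z)).surjective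
      exact IsSimpleGroup.comm_iff_isSolvable.2 inferInstance)
  have hprim := CfsgLib.ThreeT.primitive_of_connected hE hsol
    (CfsgLib.ThreeT.connected_both hE hsimple hnonab).2
    ⟨e₀, he₀, c₀, hc₀, fun h => hnc (h ▸ Commute.refl e₀)⟩
  have hg := CfsgLib.ThreeT.Prod.geo22
    ⟨hE.1, fun g a ha => CfsgLib.ThreeT.conj_mem hE ha g, hE.2.2⟩ hprim h22
  let P : CfsgLib.DoubleM22.Cover E ↥(Subgroup.centralizer ({d} : Set G)) :=
    { ψ := ψ
      surj := hψ
      z := ⟨d, hdC⟩
      z_ne := fun h => by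
        have h1 : d = 1 := congrArg Subtype.val h
        rw [h1, orderOf_one] at hd
        exact absurd hd (by norm_num)
      ker_iff := fun x => by
        refine (QuotientGroup.eq_one_iff x).trans ?_
        rw [Subgroup.mem_subgroupOf]
        constructor
        · intro h
          obtain ⟨k, hk⟩ := Subgroup.mem_zpowers_iff.1 h
          rw [← zpow_mod_orderOf, hd] at hk
          rcases Int.emod_two_eq_zero_or_one k with h2 | h2
          · left; exact Subtype.ext (by simpa [h2] using hk.symm)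
          · right; exact Subtype.ext (by simpa [h2] using hk.symm)
        · rintro (rfl | rfl)
          · exact one_mem _
          · exact Subgroup.mem_zpowers d
      central := fun x => Subtype.ext (Subgroup.mem_centralizer_singleton_iff.1 x.2).symm
      perfect := hperf
      geo := hg
      prim := hprim
      type22 := h22 }
  let T : Setup d E := ⟨P, rfl, hnwc⟩
  have hgrp : Cfsg.IsThreeTranspositionGroup (conjugatesOf d) :=
    ⟨T.class3.1, fun g a ha => Setup.conj_mem ha g, T.class3.2.2⟩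
  obtain ⟨f, -⟩ := exists_iso_fi23 hgrp T.prim T.type23
  exact ⟨f.symm⟩

end CfsgLib.TC23
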