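import Cfsg.Agent.Spor3T.ReflModThreeMatrix
import Cfsg.Agent.Coset.O73.Classical

/-!
The presented simple group is the projective reflection group of dimension seven; it has at least 351 reflections.
-/

set_option autoImplicit false
set_option linter.unusedSectionVars false
set_option linter.style.haveILetI false
set_option maxRecDepth 100000

namespace CfsgLib.TC23

open CfsgLib
open QuadraticMap CfsgLib.Quad CfsgLib.ReflThree CfsgLib.Forms
open CfsgLib.Coset (fl numHom numHom_fl)

/-- The coordinates. -/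
def co7 : Fin 7 ≃ Unit ⊕ (Fin 3 ⊕ Fin 3) where
  toFun := ![.inl (), .inr (.inl 0), .inr (.inr 0), .inr (.inl 1), .inr (.inr 1), .inr (.inl 2), .inr (.inr 2)]
  invFun := fun k => match k with
    | .inl _ => 0
    | .inr (.inl i) => ![1, 3, 5] i
    | .inr (.inr i) => ![2, 4, 6] i
  left_inv := by decide
  right_inv := by decide

/-- The space of the presented group, in coordinates. -/
def to7 : Coset.O73.V ≃ₗ[ZMod 3] (Fin 7 → ZMod 3) := LinearEquiv.funCongrLeft (ZMod 3) (ZMod 3) co7

/-- The form. -/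
noncomputable def q7 : QuadraticForm (ZMod 3) (Fin 7 → ZMod 3) := Coset.O73.Q.comp to7.symm.toLinearMap

/-- The form, computably. -/
def qv (v : Fin 7 → ZMod 3) : ZMod 3 := v 0 * v 0 + (v 1 * v 2 + v 3 * v 4 + v 5 * v 6)

theorem q7_apply (v : Fin 7 → ZMod 3) : q7 v = qv v := by
  show Coset.O73.Q (to7.symm v) = qv v
  rw [show Coset.O73.Q (to7.symm v) = Cfsg.quadFormOdd 3 (ZMod 3) (to7.symm v) from congrFun (oddQ_coe 3) _]
  simp [Cfsg.quadFormOdd, to7, LinearEquiv.funCongrLeft_symm, qv, co7, Fin.sum_univ_three, pow_two]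

theorem q7_to7 (v : Coset.O73.V) : q7 (to7 v) = Coset.O73.Q v := by simp [q7]

theorem q7_nondeg : (polarBilin q7).Nondegenerate := by
  have h := oddQ_nondeg (F := ZMod 3) (by decide : (2 : ZMod 3) ≠ 0) 3
  have e : ∀ a b, polarBilin q7 (to7 a) (to7 b) = polarBilin Coset.O73.Q a b := fun a b => by
    simp only [polarBilin_apply_apply, polar, ← map_add to7, q7_to7]
  refine ⟨fun a ha => ?_, fun b hb => ?_⟩
  · obtain ⟨a, rfl⟩ := to7.surjective a
    rw [h.1 a fun b => by rw [← e]; exact ha _, map_zero]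
  · obtain ⟨b, rfl⟩ := to7.surjective b
    rw [h.2 b fun a => by rw [← e]; exact hb _, map_zero]

theorem q7_gram : ∀ i j : Fin 7, polar qv (Pi.single i 1) (Pi.single j 1) =
    ![![2, 0, 0, 0, 0, 0, 0], ![0, 0, 1, 0, 0, 0, 0], ![0, 1, 0, 0, 0, 0, 0], ![0, 0, 0, 0, 1, 0, 0],
      ![0, 0, 0, 1, 0, 0, 0], ![0, 0, 0, 0, 0, 0, 1], ![0, 0, 0, 0, 0, 1, 0]] i j := by
  unfold QuadraticMap.polar qv
  decide +kernel

theorem q7_det : Cfsg.polarGramDet (⇑q7) = -(2 : ZMod 3) := by
  rw [Cfsg.polarGramDet, show (⇑q7 : (Fin 7 → ZMod 3) → ZMod 3) = qv from funext q7_apply]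
  simp only [q7_gram]
  simp [Matrix.det_succ_row_zero, Fin.sum_univ_succ, Fin.succAbove]
  all_goals decide

/-- The roots. -/
theorem roots_card : 702 ≤ (Finset.univ.filter fun v : Fin 7 → ZMod 3 => qv v = 2).card := by
  unfold qv
  decide +kernel

theorem two_ne' : (2 : ZMod 3) ≠ 0 := by decide

/-- The isometry `-1`. -/
noncomputable abbrev n7 : oGroup q7 := negIso q7

theorem n7_sq : n7 * n7 = 1 := Subtype.ext (LinearEquiv.ext fun v => neg_neg v)

theorem n7_comm (g : oGroup q7) : g * n7 = n7 * g := Subtype.ext (LinearEquiv.ext fun v => map_neg g.1 v)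

theorem n7_ne : n7 ≠ 1 := fun e => by
  have h : -(Pi.single (0 : Fin 7) (1 : ZMod 3) : Fin 7 → ZMod 3) = (Pi.single (0 : Fin 7) (1 : ZMod 3) : Fin 7 → ZMod 3) :=
    congrArg (fun g : oGroup q7 => g.1 (Pi.single 0 1)) e
  have := congrFun h 0
  simp at this
  exact absurd this (by decide)

theorem mem_n7 {g : oGroup q7} : g ∈ Subgroup.zpowers n7 ↔ g = 1 ∨ g = n7 := by
  constructor
  · rintro ⟨i, rfl⟩
    have h2 : n7 ^ (2 : ℤ) = 1 := by rw [zpow_two]; exact n7_sq
    rcases Int.even_or_odd i with ⟨j, rfl⟩ | ⟨j, rfl⟩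
    · left; show n7 ^ (j + j) = 1; rw [← two_mul, zpow_mul, h2, one_zpow]
    · right; show n7 ^ (2 * j + 1) = n7; rw [zpow_add, zpow_mul, h2, one_zpow, one_mul, zpow_one]
  · rintro (rfl | rfl)
    exacts [one_mem _, Subgroup.mem_zpowers _]

instance n7_normal : (Subgroup.zpowers n7).Normal := ⟨fun m hm g => by
  rcases mem_n7.1 hm with rfl | rfl
  · simp
  · rw [n7_comm, mul_inv_cancel_right]; exact hm⟩

/-- The image modulo the centre. -/
noncomputable def p7 : oGroup q7 →* oGroup q7 ⧸ Subgroup.zpowers n7 := QuotientGroup.mk' _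

theorem double2 : ∀ a : ZMod 3, a = 2 * (a + a) := by decide

theorem p7_inj {u v : Fin 7 → ZMod 3} (hu : q7 u = 2) (h : p7 (refl q7 u) = p7 (refl q7 v)) :
    v = u ∨ v = -u := by
  haveI : Fact (Nat.Prime 3) := ⟨Nat.prime_three⟩
  have hm : (refl q7 u)⁻¹ * refl q7 v ∈ Subgroup.zpowers n7 := QuotientGroup.eq.1 h
  rcases mem_n7.1 hm with e | e
  · exact eq_or_neg_of_refl_eq (hu ▸ two_ne') (inv_mul_eq_one.1 e)
  · exfalso
    rw [inv_mul_eq_iff_eq_mul] at e
    have htop : Submodule.span (ZMod 3) ({u, v} : Set (Fin 7 → ZMod 3)) = ⊤ := by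
      rw [eq_top_iff]
      intro x _
      set W := Submodule.span (ZMod 3) ({u, v} : Set (Fin 7 → ZMod 3)) with hW
      have hx : (refl q7 v).1 x = -((refl q7 u).1 x) := by
        rw [e]
        show (refl q7 u).1 (-x) = _
        rw [map_neg]
      rw [ReflThree.refl_apply', ReflThree.refl_apply'] at hx
      have h3 : x + x + ((-(q7 v) * polar q7 x v) • v + (-(q7 u) * polar q7 x u) • u) = 0 := by
        have := eq_neg_iff_add_eq_zero.1 hx
        rw [← this]; abel
      have hxx : x + x ∈ W := by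
        rw [eq_neg_of_add_eq_zero_left h3]
        exact neg_mem (add_mem (Submodule.smul_mem _ _ (Submodule.subset_span (Or.inr rfl)))
          (Submodule.smul_mem _ _ (Submodule.subset_span (Or.inl rfl))))
      have : x = (2 : ZMod 3) • (x + x) := by
        funext i
        simpa using double2 (x i)
      rw [this]
      exact Submodule.smul_mem _ _ hxx
    classical
    have hcard : Module.finrank (ZMod 3) (Submodule.span (ZMod 3) ({u, v} : Set (Fin 7 → ZMod 3))) ≤ 2 := by
      refine (finrank_span_le_card _).trans ?_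
      rw [Set.toFinset_insert, Set.toFinset_singleton]
      exact Finset.card_le_two
    rw [htop, finrank_top, Module.finrank_fin_fun] at hcard
    omega

/-- The generators' images. -/
noncomputable def f7 : Coset.O73.P →* oGroup q7 ⧸ Subgroup.zpowers n7 :=
  p7.comp ((oGroupCongr to7 q7_to7).toMonoidHom.comp Coset.O73.φ)

theorem f7_gen {l : Nat} (hl : l < 8) :
    f7 (fl Coset.O73.Lp l) = p7 (refl q7 (to7 (Coset.O73.rv l))) := by
  have h1 : Coset.O73.φ (fl Coset.O73.Lp l) = negIso Coset.O73.Q * refl Coset.O73.Q (Coset.O73.rv l) := by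
    rw [Coset.O73.φ, numHom_fl, Coset.O73.fl_Li hl]; rfl
  have h2 : oGroupCongr to7 q7_to7 (negIso Coset.O73.Q) = n7 := by
    refine Subtype.ext (LinearEquiv.ext fun w => ?_)
    show to7 (-(to7.symm w)) = -w
    rw [map_neg, LinearEquiv.apply_symm_apply]
  have h3 : oGroupCongr to7 q7_to7 (refl Coset.O73.Q (Coset.O73.rv l)) = refl q7 (to7 (Coset.O73.rv l)) := by
    refine Subtype.ext (LinearEquiv.ext fun w => ?_)
    show to7 ((refl Coset.O73.Q (Coset.O73.rv l)).1 (to7.symm w)) = _
    rw [Quad.refl_apply, Quad.refl_apply, map_add, LinearEquiv.map_smul, LinearEquiv.apply_symm_apply, q7_to7]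
    congr 2
  simp only [f7, MonoidHom.comp_apply, MulEquiv.coe_toMonoidHom, h1, map_mul, h2, h3]
  rw [show p7 n7 = 1 from (QuotientGroup.eq_one_iff _).2 (Subgroup.mem_zpowers _), one_mul]

theorem q7_rv {l : Nat} (hl : l < 8) : q7 (to7 (Coset.O73.rv l)) = 2 := by
  rw [q7_to7]; exact Coset.O73.rv_norm l hl

theorem f7_injective : Function.Injective f7 := by
  haveI := Coset.O73.isSimple
  rw [← MonoidHom.ker_eq_bot_iff]
  refine f7.normal_ker.eq_bot_or_eq_top.resolve_right fun q => ?_
  have h1 : f7 (fl Coset.O73.Lp 0) = 1 := MonoidHom.mem_ker.1 (q ▸ Subgroup.mem_top _)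
  rw [f7_gen (by norm_num)] at h1
  rcases mem_n7.1 ((QuotientGroup.eq_one_iff _).1 h1) with e | e
  · exact refl_ne_one (Q := q7) (q7_rv (by norm_num : 0 < 8) ▸ two_ne') e
  · have h2 : p7 (refl q7 (to7 (Coset.O73.rv 0))) = p7 (refl q7 0) := by
      rw [refl_eq_one (Q := q7) (map_zero q7), map_one]; exact h1
    have h3 := q7_rv (by norm_num : 0 < 8)
    rcases p7_inj h3 h2 with q | q
    · rw [← q, QuadraticMap.map_zero] at h3; exact two_ne' h3.symm
    · rw [neg_eq_zero.1 q.symm, QuadraticMap.map_zero] at h3; exact two_ne' h3.symm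

theorem range_f7 : f7.range = (Subgroup.closure (rset q7 2)).map p7 := by
  haveI : Fact (Nat.Prime 3) := ⟨Nat.prime_three⟩
  haveI := Coset.O73.card_le.1
  have hO : Nat.card (oGroup q7) = 2 * 9170703360 := by
    rw [← Nat.card_congr (oGroupCongr to7 q7_to7).toEquiv]
    have h := card_oGroup_odd (F := ZMod 3) (q := 3) (by simp) two_ne' 3
    norm_num [Finset.prod_range_succ] at h
    exact_mod_cast h
  haveI : Finite (oGroup q7) := Nat.finite_of_card_ne_zero (by rw [hO]; norm_num)
  have hN : Nat.card (Subgroup.zpowers n7) = 2 := by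
    rw [Nat.card_zpowers]
    exact orderOf_eq_prime (by rw [pow_two]; exact n7_sq) n7_ne
  have hidx : f7.range.index = 2 := by
    have h1 := Subgroup.card_mul_index f7.range
    rw [← Nat.card_congr (MonoidHom.ofInjective f7_injective).toEquiv, Coset.O73.card_and_injective.1] at h1
    have h2 := Subgroup.card_eq_card_quotient_mul_card_subgroup (Subgroup.zpowers n7)
    rw [hO, hN] at h2
    omega
  haveI := Subgroup.normal_of_index_eq_two hidx
  refine le_antisymm ?_ ?_
  · rintro _ ⟨x, rfl⟩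
    induction (Coset.closure_numGens.symm ▸ Subgroup.mem_top x :
      x ∈ Subgroup.closure {y | y ∈ Coset.O73.Lp}) using Subgroup.closure_induction with
    | mem y hy =>
      obtain ⟨l, hl, rfl⟩ := List.getElem_of_mem hy
      have hl' : l < 8 := Coset.O73.len_Lp ▸ hl
      rw [← List.getD_eq_getElem _ (1 : Coset.O73.P) hl]
      show f7 (fl Coset.O73.Lp l) ∈ _
      rw [f7_gen hl']
      exact Subgroup.mem_map_of_mem _ (Subgroup.subset_closure ⟨_, q7_rv hl', rfl⟩)
    | one => rw [map_one]; exact one_mem _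
    | mul a b _ _ ha hb => rw [map_mul]; exact mul_mem ha hb
    | inv a _ ha => rw [map_inv]; exact inv_mem ha
  · rw [MonoidHom.map_closure, Subgroup.closure_le]
    rintro _ ⟨_, ⟨v, hv, rfl⟩, rfl⟩
    obtain ⟨g, -, e⟩ := ReflThree.conj_within q7_nondeg (by norm_num) two_ne' (q7_rv (by norm_num : 0 < 8)) hv
    rw [← e, map_mul, map_mul, map_inv]
    exact (inferInstance : f7.range.Normal).conj_mem _ ⟨_, f7_gen (by norm_num)⟩ (p7 g)

/-- At least 351 conjugates of the first generator. -/
theorem ncard_gen_conj : 351 ≤ (conjugatesOf (fl Coset.O73.Lp 0)).ncard := by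
  classical
  haveI : Fact (Nat.Prime 3) := ⟨Nat.prime_three⟩
  haveI := Coset.O73.card_le.1
  have key : ∀ v, q7 v = 2 → ∃ x ∈ conjugatesOf (fl Coset.O73.Lp 0), f7 x = p7 (refl q7 v) := by
    intro v hv
    obtain ⟨g, hg, e⟩ := ReflThree.conj_within q7_nondeg (by norm_num) two_ne' (q7_rv (by norm_num : 0 < 8)) hv
    obtain ⟨k, hk⟩ : p7 g ∈ f7.range := range_f7 ▸ Subgroup.mem_map_of_mem _ hg
    refine ⟨k * fl Coset.O73.Lp 0 * k⁻¹, isConj_iff.2 ⟨k, rfl⟩, ?_⟩
    rw [map_mul, map_mul, map_inv, hk, f7_gen (by norm_num), ← map_inv, ← map_mul, ← map_mul, e]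
  haveI : Fintype Coset.O73.P := Fintype.ofFinite _
  set R := Finset.univ.filter fun v : Fin 7 → ZMod 3 => qv v = 2
  have h2 : R.card ≤ 2 * (conjugatesOf (fl Coset.O73.Lp 0)).ncard := by
    rw [Set.ncard_eq_toFinset_card']
    choose X hX hXe using fun v : ↥R => key v.1 ((q7_apply _).trans (Finset.mem_filter.1 v.2).2)
    refine le_trans ?_ (Nat.mul_le_mul_left 2 (Finset.card_le_card (s := R.attach.image X) ?_))
    · rw [← Finset.card_attach (s := R)]
      refine Finset.card_le_mul_card_image _ 2 fun b hb => ?_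
      obtain ⟨u, -, rfl⟩ := Finset.mem_image.1 hb
      refine le_trans (le_of_eq (Finset.card_map ⟨Subtype.val, Subtype.val_injective⟩).symm)
        (le_trans (Finset.card_le_card (t := {u.1, -u.1}) ?_) Finset.card_le_two)
      intro v hv
      obtain ⟨w, hw, rfl⟩ := Finset.mem_map.1 hv
      have he : p7 (refl q7 u.1) = p7 (refl q7 w.1) := by rw [← hXe, ← hXe, (Finset.mem_filter.1 hw).2]
      rcases p7_inj ((q7_apply _).trans (Finset.mem_filter.1 u.2).2) he with q | q <;> simp [q]
    · intro b hb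
      obtain ⟨u, -, rfl⟩ := Finset.mem_image.1 hb
      exact Set.mem_toFinset.2 (hX u)
  have h3 : 702 ≤ R.card := le_trans roots_card (le_of_eq (by congr))
  omega

theorem center_P : Subgroup.center Coset.O73.P = ⊥ := by
  haveI := Coset.O73.isSimple
  refine (Subgroup.center Coset.O73.P).normal_of_characteristic.eq_bot_or_eq_top.resolve_right fun h => ?_
  have hbot : commutator Coset.O73.P = ⊥ := by
    rw [commutator_def, Subgroup.commutator_eq_bot_iff_le_centralizer]
    intro a _
    exact Subgroup.mem_centralizer_iff.2 fun b _ => Subgroup.mem_center_iff.1 (h ▸ Subgroup.mem_top a) b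
  exact top_ne_bot (Coset.O73.commutator_P.symm.trans hbot)

/-- The presented group is the projective reflection group. -/
theorem isProjRefl {X : Type*} [Group X] (e : X ≃* Coset.O73.P) :
    Cfsg.IsProjReflectionGroupModThree X 7 (-2) 2 := by
  refine ⟨q7, q7_nondeg, q7_det, ?_⟩
  set R' := Subgroup.closure (rset q7 2)
  set ψ : ↥R' →* ↥f7.range :=
    (MulEquiv.subgroupCongr range_f7.symm).toMonoidHom.comp (p7.subgroupMap R') with hψ
  have hψs : Function.Surjective ψ := (MulEquiv.subgroupCongr range_f7.symm).surjective.comp (p7.subgroupMap_surjective _)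
  have hψv : ∀ r : ↥R', ((ψ r : ↥f7.range) : oGroup q7 ⧸ Subgroup.zpowers n7) = p7 r.1 := fun r => rfl
  have hker : ψ.ker = Subgroup.center ↥R' := by
    refine le_antisymm (fun r hr => ?_) fun r hr => ?_
    · have h1 : p7 r.1 = 1 := (hψv r).symm.trans (congrArg Subtype.val (MonoidHom.mem_ker.1 hr))
      refine Subgroup.mem_center_iff.2 fun s => Subtype.ext ?_
      show s.1 * r.1 = r.1 * s.1
      rcases mem_n7.1 ((QuotientGroup.eq_one_iff _).1 h1) with q | q <;> rw [q]
      · rw [mul_one, one_mul]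
      · exact n7_comm s.1
    · have hc : (MonoidHom.ofInjective f7_injective).symm (ψ r) ∈ Subgroup.center Coset.O73.P := by
        refine Subgroup.mem_center_iff.2 fun y => ?_
        obtain ⟨s, hs⟩ := hψs (MonoidHom.ofInjective f7_injective y)
        apply (MonoidHom.ofInjective f7_injective).injective
        rw [map_mul, map_mul, MulEquiv.apply_symm_apply, ← hs, ← map_mul, ← map_mul, Subgroup.mem_center_iff.1 hr s]
      rw [center_P, Subgroup.mem_bot, MulEquiv.map_eq_one_iff] at hc
      exact hc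
  let i : ↥R' ≃* ↥(Cfsg.reflectionSubgroup (⇑q7) 2) :=
    ((Cfsg.reflectionSubgroup (⇑q7) 2).equivMapOfInjective _ (isoGroupEquiv q7).injective |>.trans
      (MulEquiv.subgroupCongr (map_reflectionSubgroup 2))).symm
  exact ⟨e.trans ((MonoidHom.ofInjective f7_injective).trans ((QuotientGroup.quotientKerEquivOfSurjective ψ hψs).symm.trans
    ((QuotientGroup.quotientMulEquivOfEq hker).trans (QuotientGroup.congr _ _ i (map_center_equiv i)))))⟩

end CfsgLib.TC23
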