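import Cfsg.Agent.TC23.Count
import Cfsg.Agent.TC23.Model

/-!
A group with an involution centraliser a double cover of a group of type M(22), not weakly closed, is of type M(23).
-/

set_option autoImplicit false
set_option linter.unusedSectionVars false
set_option linter.style.haveILetI false

namespace CfsgLib.TC23

open CfsgLib
open CfsgLib.ThreeT CfsgLib.ThreeT.Prod CfsgLib.DoubleM22
open CfsgLib.Coset (fl)

universe u

section Transport

variable {Q Q' : Type*} [Group Q] [Group Q'] (e : Q ≃* Q') (D : Set Q)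

theorem image_nbset (a : Q) : e '' {y : Q | y ∈ D ∧ y ≠ a ∧ Commute a y} =
    {y : Q' | y ∈ e '' D ∧ y ≠ e a ∧ Commute (e a) y} := by
  ext y
  constructor
  · rintro ⟨x, ⟨hx, hne, hc⟩, rfl⟩
    exact ⟨⟨x, hx, rfl⟩, fun q => hne (e.injective q), hc.map e.toMonoidHom⟩
  · rintro ⟨⟨x, hx, rfl⟩, hne, hc⟩
    exact ⟨x, ⟨hx, fun q => hne (congrArg e q), by simpa using hc.map e.symm.toMonoidHom⟩, rfl⟩

theorem quot_equiv (T : Set Q) {T' : Set Q'} (h : e '' T = T') :
    Nonempty ((↥(Subgroup.closure T) ⧸ Subgroup.center ↥(Subgroup.closure T)) ≃*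
      (↥(Subgroup.closure T') ⧸ Subgroup.center ↥(Subgroup.closure T'))) := by
  let i : ↥(Subgroup.closure T) ≃* ↥(Subgroup.closure T') :=
    ((Subgroup.closure T).equivMapOfInjective e.toMonoidHom e.injective).trans
      (MulEquiv.subgroupCongr (by rw [MonoidHom.map_closure, ← h]; rfl))
  exact ⟨QuotientGroup.congr _ _ i (CfsgLib.Quad.map_center_equiv i)⟩

theorem type22_map (h : Cfsg.IsOfTypeM22 Q D) : Cfsg.IsOfTypeM22 Q' (e '' D) := by
  obtain ⟨hZ, a, ha, c, hc, hac, ⟨F, iF, iF', hF, ⟨e1⟩⟩, c₃, hc₃, q, hq, hdet, ⟨e2⟩⟩ := h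
  refine ⟨?_, e a, ⟨a, ha, rfl⟩, e c, ⟨c, hc, rfl⟩, fun q => hac (by simpa using q.map e.symm.toMonoidHom),
    ⟨F, iF, iF', hF, ?_⟩, c₃, hc₃, q, hq, hdet, ?_⟩
  · rw [← CfsgLib.Quad.map_center_equiv e, hZ, Subgroup.map_bot]
  · obtain ⟨j⟩ := quot_equiv e _ (image_nbset e D a)
    exact ⟨j.symm.trans e1⟩
  · obtain ⟨j⟩ := quot_equiv e ({y : Q | y ∈ D ∧ y ≠ a ∧ Commute a y} ∩ {y : Q | y ∈ D ∧ y ≠ c ∧ Commute c y})
      (by rw [Set.image_inter e.injective, image_nbset e D a, image_nbset e D c])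
    exact ⟨j.symm.trans e2⟩

end Transport

variable {G : Type u} [Group G] [Finite G] {d : G} {Q : Type*} [Group Q] [Finite Q] {E : Set Q}

namespace Setup

variable (S : Setup d E)

include S

theorem tri_model {x : G} (hx : x ∈ farSet d) :
    Nonempty (↥(Subgroup.closure (tri (conjugatesOf d) d x)) ≃* Coset.O73.P) := by
  obtain ⟨φ, hinj, h0, hrange⟩ := S.exists_hom hx.1 hx.2
  have hcent : ∀ k, Commute (φ k) d ∧ Commute (φ k) x := by
    intro k
    have hle : Subgroup.closure (tri (conjugatesOf d) d x) ≤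
        Subgroup.centralizer ({d} : Set G) ⊓ Subgroup.centralizer ({x} : Set G) :=
      (Subgroup.closure_le _).2 fun v hv =>
        ⟨mem_C.2 hv.1.2.2.symm, Subgroup.mem_centralizer_singleton_iff.2 hv.2.eq⟩
    have := hle (hrange ⟨k, rfl⟩)
    exact ⟨mem_C.1 this.1, Subgroup.mem_centralizer_singleton_iff.1 this.2⟩
  have hsub : φ '' conjugatesOf (fl Coset.O73.Lp 0) ⊆ tri (conjugatesOf d) d x := by
    rintro _ ⟨y, hy, rfl⟩
    obtain ⟨k, rfl⟩ := isConj_iff.1 hy
    obtain ⟨h1, h2⟩ := hcent k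
    rw [map_mul, map_mul, map_inv]
    refine ⟨S.nb_conj h1 h0.1, ?_⟩
    exact (h2.mul_left h0.2).mul_left h2.inv_left
  have himg : (φ '' conjugatesOf (fl Coset.O73.Lp 0)).ncard = (conjugatesOf (fl Coset.O73.Lp 0)).ncard :=
    Set.ncard_image_of_injective _ hinj
  have h351 : 351 ≤ (tri (conjugatesOf d) d x).ncard :=
    ncard_gen_conj.trans (himg ▸ Set.ncard_le_ncard hsub (Set.toFinite _))
  have heq : φ '' conjugatesOf (fl Coset.O73.Lp 0) = tri (conjugatesOf d) d x :=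
    Set.eq_of_subset_of_ncard_le hsub (by rw [S.ncard_tri hx h351, himg]; exact ncard_gen_conj) (Set.toFinite _)
  have hL : Subgroup.closure (tri (conjugatesOf d) d x) = φ.range := by
    refine le_antisymm ?_ hrange
    rw [← heq, Subgroup.closure_le]
    rintro _ ⟨y, -, rfl⟩
    exact ⟨y, rfl⟩
  exact ⟨(MulEquiv.subgroupCongr hL).trans (MonoidHom.ofInjective hinj).symm⟩

theorem type22_hsub : Cfsg.IsOfTypeM22 (↥(hsub (conjugatesOf d) d) ⧸ Subgroup.center ↥(hsub (conjugatesOf d) d))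
    ((QuotientGroup.mk : ↥(hsub (conjugatesOf d) d) → _) ''
      {v : ↥(hsub (conjugatesOf d) d) | (v : G) ∈ nb (conjugatesOf d) d}) := by
  set H := hsub (conjugatesOf d) d
  let ι : ↥H →* Q := S.P.ψ.comp (Subgroup.inclusion S.hsub_eq.le)
  have hι : ∀ v : ↥H, ι v = S.im (v : G) := fun v => (S.im_coe (Subgroup.inclusion S.hsub_eq.le v)).symm
  have hs : Function.Surjective ι := fun q => by
    obtain ⟨c, hc, rfl⟩ := S.exists_lift q
    exact ⟨⟨c, S.hsub_eq.ge (mem_C.2 hc)⟩, hι _⟩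
  have hd : ∀ v : ↥H, Commute (v : G) d := fun v => mem_C.1 (S.hsub_eq.le v.2)
  have hker : ι.ker = Subgroup.center ↥H := by
    refine le_antisymm (fun v hv => Subgroup.mem_center_iff.2 fun w => Subtype.ext ?_) fun v hv => ?_
    · show (w : G) * v = v * w
      rcases S.im_eq (Commute.one_left d) (hd v) (by rw [S.im_one, ← hι, MonoidHom.mem_ker.1 hv]) with e | e
      · rw [e, mul_one, one_mul]
      · rw [e, mul_one]; exact hd w
    · have : ι v ∈ Subgroup.center Q := Subgroup.mem_center_iff.2 fun q => by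
        obtain ⟨w, rfl⟩ := hs q
        rw [← map_mul, ← map_mul, Subgroup.mem_center_iff.1 hv w]
      rwa [S.P.geo.center, Subgroup.mem_bot] at this
  let j : Q ≃* ↥H ⧸ Subgroup.center ↥H :=
    (QuotientGroup.quotientKerEquivOfSurjective ι hs).symm.trans (QuotientGroup.quotientMulEquivOfEq hker)
  have hj : ∀ v : ↥H, j (ι v) = (v : ↥H ⧸ Subgroup.center ↥H) := by
    intro v
    show QuotientGroup.quotientMulEquivOfEq hker ((QuotientGroup.quotientKerEquivOfSurjective ι hs).symm (ι v)) = _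
    rw [show (QuotientGroup.quotientKerEquivOfSurjective ι hs).symm (ι v) = (v : ↥H ⧸ ι.ker) from
      (MulEquiv.symm_apply_eq _).2 rfl]
    rfl
  have := type22_map j E S.P.type22
  convert this using 1
  ext p
  constructor
  · rintro ⟨v, hv, rfl⟩
    exact ⟨ι v, hι v ▸ S.nb_im hv, hj v⟩
  · rintro ⟨q, hq, rfl⟩
    obtain ⟨c, hc, rfl⟩ := S.nb_surj hq
    exact ⟨⟨c, Subgroup.subset_closure hc⟩, hc, ((congrArg j (hι _)).symm.trans (hj _)).symm⟩

/-- The group is of type M(23). -/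
theorem type23 : Cfsg.IsOfTypeM23 G (conjugatesOf d) := by
  obtain ⟨x, hx, hdx⟩ := S.exists_far
  obtain ⟨e⟩ := S.tri_model (x := x) ⟨hx, hdx⟩
  refine ⟨S.center, d, IsConj.refl d, x, hx, hdx, S.type22_hsub, 2, by decide, ?_⟩
  have hset : ({y : G | y ∈ conjugatesOf d ∧ y ≠ d ∧ Commute d y} ∩ {y : G | y ∈ conjugatesOf d ∧ y ≠ x ∧ Commute x y}) =
      tri (conjugatesOf d) d x := by
    ext y
    exact ⟨fun hy => ⟨hy.1, hy.2.2.2.symm⟩, fun hy => ⟨hy.1, hy.1.1, fun q => hdx (q ▸ hy.1.2.2), hy.2.symm⟩⟩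
  obtain ⟨j⟩ := quot_equiv (MulEquiv.refl G) _ ((Set.image_id _).trans hset)
  have hbot : Subgroup.center ↥(Subgroup.closure (tri (conjugatesOf d) d x)) = ⊥ := by
    rw [← CfsgLib.Quad.map_center_equiv e.symm, center_P, Subgroup.map_bot]
  exact isProjRefl (((j.trans (QuotientGroup.quotientMulEquivOfEq hbot)).trans QuotientGroup.quotientBot).trans e)

end Setup

end CfsgLib.TC23
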