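import Cfsg.Agent.TC23.Pair
import Cfsg.Agent.Spor3T.Simple

/-!
Products of non-commuting members have odd order, any two members have a common commuting member, and the
members form a class of 3-transpositions generating the group.
-/

set_option autoImplicit false
set_option linter.unusedSectionVars false
set_option linter.style.haveILetI false

namespace CfsgLib.TC23

open CfsgLib.ThreeT CfsgLib.ThreeT.Prod CfsgLib.DoubleM22

universe u

/-- The dihedral relation. -/
theorem invert_pow {G : Type*} [Group G] {x y : G} (hx : x * x = 1) (hy : y * y = 1) (i : ℕ) :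
    x * (x * y) ^ i = ((x * y) ^ i)⁻¹ * x := by
  induction i with
  | zero => simp
  | succ i ih =>
    have h1 : x * (x * y) = (x * y)⁻¹ * x := by
      rw [mul_inv_rev, inv_eq_of_mul_eq_one_right hx, inv_eq_of_mul_eq_one_right hy, mul_assoc y x x, hx,
        mul_one, ← mul_assoc, hx, one_mul]
    calc x * (x * y) ^ (i + 1) = x * (x * y) ^ i * (x * y) := by rw [pow_succ, mul_assoc]
      _ = ((x * y) ^ i)⁻¹ * (x * (x * y)) := by rw [ih, mul_assoc]
      _ = ((x * y) ^ i)⁻¹ * (x * y)⁻¹ * x := by rw [h1, mul_assoc]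
      _ = ((x * y) ^ (i + 1))⁻¹ * x := by rw [← mul_inv_rev, ← pow_succ']

variable {G : Type u} [Group G] [Finite G] {d : G} {Q : Type*} [Group Q] [Finite Q] {E : Set Q}

/-- A common commuting member. -/
def Rel (d x y : G) : Prop := ∃ w ∈ conjugatesOf d, Commute w x ∧ Commute w y

theorem Rel.conj {x y : G} (h : Rel d x y) (g : G) : Rel d (g * x * g⁻¹) (g * y * g⁻¹) := by
  obtain ⟨w, hw, h1, h2⟩ := h
  exact ⟨_, Setup.conj_mem hw g, (commute_conj_iff g w x).2 h1, (commute_conj_iff g w y).2 h2⟩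

theorem Rel.symm {x y : G} (h : Rel d x y) : Rel d y x := by
  obtain ⟨w, hw, h1, h2⟩ := h
  exact ⟨w, hw, h2, h1⟩

theorem Rel.of_conj {x y : G} {g : G} (h : Rel d (g * x * g⁻¹) (g * y * g⁻¹)) : Rel d x y := by
  have := h.conj g⁻¹
  simpa [mul_assoc] using this

namespace Setup

variable (S : Setup d E)

include S

theorem odd {x y : G} (hx : x ∈ conjugatesOf d) (hy : y ∈ conjugatesOf d) (hc : ¬ Commute x y) :
    Odd (orderOf (x * y)) := by
  rcases Nat.even_or_odd (orderOf (x * y)) with ⟨m, hm⟩ | ho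
  · exfalso
    have hxx := S.sq_of_mem hx
    have hyy := S.sq_of_mem hy
    have hn : 0 < orderOf (x * y) := orderOf_pos _
    set r := x * y with hr
    set z := r ^ m with hz
    have hzz : z * z = 1 := by rw [hz, ← pow_add, ← hm, pow_orderOf_eq_one]
    have hz1 : z ≠ 1 := fun e => by
      have := orderOf_dvd_of_pow_eq_one e
      have := Nat.le_of_dvd (by omega) this
      omega
    have hxz : x * z = z * x := by rw [hz, hr, invert_pow hxx hyy, ← hr, ← hz, inv_eq_of_mul_eq_one_right hzz]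
    have hzy : Commute z y := by
      have : y = x * r := by rw [hr, ← mul_assoc, hxx, one_mul]
      rw [this]
      exact (show Commute z x from hxz.symm).mul_right (by rw [hz]; exact (Commute.refl r).pow_left m)
    have hq : x * z ∈ conjugatesOf d := by
      rcases Nat.even_or_odd m with ⟨j, hj⟩ | ⟨j, hj⟩
      · have : x * z = (r ^ j)⁻¹ * x * (r ^ j)⁻¹⁻¹ := by
          rw [inv_inv, hz, hj, pow_add, ← mul_assoc, hr, invert_pow hxx hyy]
        rw [this]; exact conj_mem hx _
      · have : x * z = (r ^ j)⁻¹ * y * (r ^ j)⁻¹⁻¹ := by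
          have hy' : y * r ^ j = (r ^ j)⁻¹ * y := by
            have := invert_pow hyy hxx j
            rw [show y * x = r⁻¹ by rw [hr, mul_inv_rev, inv_eq_of_mul_eq_one_right hxx,
              inv_eq_of_mul_eq_one_right hyy], inv_pow, inv_inv] at this
            calc y * r ^ j = (r ^ j)⁻¹ * (r ^ j * y) * r ^ j := by group
              _ = (r ^ j)⁻¹ * (y * (r ^ j)⁻¹) * r ^ j := by rw [this]
              _ = (r ^ j)⁻¹ * y := by group
          rw [inv_inv, hz, hj, ← hy', show 2 * j + 1 = 1 + j + j by omega, pow_add, pow_add, pow_one, hr]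
          simp only [← mul_assoc, hxx, one_mul]
        rw [this]; exact conj_mem hy _
    have hcq : Commute x (x * z) := (Commute.refl x).mul_right hxz
    have hne : x ≠ x * z := fun e => hz1 (mul_eq_left.1 e.symm)
    have hgy : Commute y (x * (x * z)) := by rw [← mul_assoc, hxx, one_mul]; exact hzy.symm
    rcases S.pair hx hq hcq hne hgy with e | e
    · exact hc ((show Commute y x from mul_inv_eq_iff_eq_mul.1 e).symm)
    · rw [inv_eq_of_mul_eq_one_right hyy] at e
      have h2 : r ^ 2 = z := by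
        rw [pow_two, hr]
        calc x * y * (x * y) = x * (y * x * y) := by group
          _ = z := by rw [e, ← mul_assoc, hxx, one_mul]
      refine hc (S.comm_of_pow hx hy (k := 2) ?_)
      rw [← hr, show (2 : ℕ) ^ 2 = 2 * 2 from rfl, pow_mul, h2, pow_two, hzz]
  · exact ho

/-- Non-commuting members are conjugate in the group they generate. -/
theorem conj_within {x y : G} (hx : x ∈ conjugatesOf d) (hy : y ∈ conjugatesOf d) (hc : ¬ Commute x y) :
    ∃ g ∈ Subgroup.closure ({x, y} : Set G), g * x * g⁻¹ = y := by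
  obtain ⟨m, hm⟩ := S.odd hx hy hc
  have hxx := S.sq_of_mem hx
  have hyy := S.sq_of_mem hy
  have hxm : x ∈ Subgroup.closure ({x, y} : Set G) := Subgroup.subset_closure (Or.inl rfl)
  have hym : y ∈ Subgroup.closure ({x, y} : Set G) := Subgroup.subset_closure (Or.inr rfl)
  refine ⟨x * ((x * y) ^ m)⁻¹, mul_mem hxm (inv_mem (pow_mem (mul_mem hxm hym) m)), ?_⟩
  have h1 : ((x * y) ^ m)⁻¹ * x = x * (x * y) ^ m := (invert_pow hxx hyy m).symm
  have h2 : (x * y) ^ (m + m) = (x * y)⁻¹ := by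
    refine eq_inv_of_mul_eq_one_left ?_
    rw [← pow_succ, show m + m + 1 = 2 * m + 1 by omega, ← hm, pow_orderOf_eq_one]
  calc x * ((x * y) ^ m)⁻¹ * x * (x * ((x * y) ^ m)⁻¹)⁻¹
      = x * (((x * y) ^ m)⁻¹ * x) * (x * y) ^ m * x⁻¹ := by group
    _ = x * x * ((x * y) ^ m * (x * y) ^ m) * x⁻¹ := by rw [h1]; group
    _ = y := by
      rw [← pow_add, h2, hxx, one_mul, mul_inv_rev, mul_assoc, ← mul_inv_rev, hxx, inv_one, mul_one,
        inv_eq_of_mul_eq_one_right hyy]

/-- A member commuting with one of at most three commuting members and with their product commutes with all. -/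
theorem comm_all [DecidableEq G] {T : Finset G} (hT : ∀ a ∈ T, a ∈ conjugatesOf d)
    (hTc : ∀ a ∈ T, ∀ b ∈ T, Commute a b) (h3 : T.card ≤ 3) {w r : G} (hw : w ∈ T) (hr : r ∈ conjugatesOf d)
    (hrw : Commute r w) (hrT : Commute r (pr T)) : ∀ a ∈ T, Commute r a := by
  have e : pr T = w * pr (T.erase w) := by
    conv_lhs => rw [← Finset.insert_erase hw]
    exact pr_insert (Finset.notMem_erase w T) (by rw [Finset.insert_erase hw]; exact hTc)
  have hr' : Commute r (pr (T.erase w)) := by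
    rw [show pr (T.erase w) = w * pr T by rw [e, ← mul_assoc, S.sq_of_mem (hT w hw), one_mul]]
    exact hrw.mul_right hrT
  have hcard : (T.erase w).card ≤ 2 := by rw [Finset.card_erase_of_mem hw]; omega
  intro a ha
  by_cases haw : a = w
  · exact haw ▸ hrw
  have ha' : a ∈ T.erase w := Finset.mem_erase.2 ⟨haw, ha⟩
  rcases (show (T.erase w).card = 1 ∨ (T.erase w).card = 2 by
    have := Finset.card_pos.2 ⟨a, ha'⟩; omega) with h1 | h2
  · obtain ⟨b, hb⟩ := Finset.card_eq_one.1 h1
    rw [hb, pr_singleton] at hr'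
    rw [hb, Finset.mem_singleton] at ha'
    exact ha' ▸ hr'
  · obtain ⟨p, q, hpq, hb⟩ := Finset.card_eq_two.1 h2
    have hpT : p ∈ T.erase w := hb ▸ Finset.mem_insert_self _ _
    have hqT : q ∈ T.erase w := hb ▸ Finset.mem_insert_of_mem (Finset.mem_singleton_self _)
    obtain ⟨hpw, hpT⟩ := Finset.mem_erase.1 hpT
    obtain ⟨hqw, hqT⟩ := Finset.mem_erase.1 hqT
    rw [hb, pr_pair hpq (hTc p hpT q hqT)] at hr'
    obtain ⟨h1, h2⟩ := S.split_pair hr (hT w hw) (hT p hpT) (hT q hqT) hrw (hTc w hw p hpT) (hTc w hw q hqT)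
      (hTc p hpT q hqT) hpw hqw hpq hr'
    rw [hb, Finset.mem_insert, Finset.mem_singleton] at ha'
    rcases ha' with rfl | rfl
    exacts [h1, h2]

theorem cross_d {t y : G} (hy : y ∈ conjugatesOf d) (htt : t * t = 1) (ht1 : t ≠ 1) (htd : Commute t d)
    (hty : Commute t y) : Rel d d y := by
  classical
  obtain ⟨c, hc⟩ := S.P.invol_into S.hcl (x := ⟨t, mem_C.2 htd⟩) (Subtype.ext htt)
  have hcd : Commute (c : G) d := mem_C.1 c.2
  set t' := (c : G) * t * (c : G)⁻¹ with ht'
  set y' := (c : G) * y * (c : G)⁻¹ with hy'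
  suffices Rel d d y' by
    rw [show d = (c : G) * d * (c : G)⁻¹ by rw [hcd.eq, mul_inv_cancel_right]] at this
    simpa [hcd.eq] using this.of_conj
  have ht'A : t' ∈ S.A := ⟨_, hc, rfl⟩
  have hy'D : y' ∈ conjugatesOf d := conj_mem hy c
  have ht'y : Commute t' y' := (commute_conj_iff _ _ _).2 hty
  by_contra hR
  have hfar : ∀ f ∈ S.Om, ¬ Commute f y' := fun f hf q => hR ⟨f, hf.2, S.A_comm hf.1 S.d_mem_A, q⟩
  have hconj : ∀ a ∈ S.Om, ∀ f ∈ S.Om, ∃ g : G, Commute g t' ∧ g * a * g⁻¹ = f := by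
    intro a ha f hf
    have key : ∀ a ∈ S.Om, ∃ g : G, Commute g t' ∧ g * a * g⁻¹ = y' := by
      intro a ha
      obtain ⟨g, hg, e⟩ := S.conj_within ha.2 hy'D (hfar a ha)
      refine ⟨g, Subgroup.mem_centralizer_singleton_iff.1 ((Subgroup.closure_le _).2 ?_ hg), e⟩
      rintro v (rfl | rfl)
      exacts [Subgroup.mem_centralizer_singleton_iff.2 (S.A_comm ha.1 ht'A).eq,
        Subgroup.mem_centralizer_singleton_iff.2 ht'y.symm.eq]
    obtain ⟨g, hg, e⟩ := key a ha
    obtain ⟨g', hg', e'⟩ := key f hf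
    refine ⟨g'⁻¹ * g, hg'.inv_left.mul_left hg, ?_⟩
    calc g'⁻¹ * g * a * (g'⁻¹ * g)⁻¹ = g'⁻¹ * (g * a * g⁻¹) * g' := by group
      _ = f := by rw [e, ← e']; group
  obtain ⟨T, hT, hT3, eT⟩ := S.exists_short ht'A
  have hT0 : T.Nonempty := by
    rw [Finset.nonempty_iff_ne_empty]
    rintro rfl
    rw [pr_empty] at eT
    exact ht1 (mul_left_cancel (mul_right_cancel (show (c : G) * t * (c : G)⁻¹ = (c : G) * 1 * (c : G)⁻¹ by
      rw [mul_one, mul_inv_cancel]; exact eT.symm)))
  obtain ⟨a, ha⟩ := hT0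
  obtain ⟨f, hf, hfT⟩ : ∃ f ∈ S.Om, f ∉ T := by
    by_contra hno
    simp only [not_exists, not_and, not_not] at hno
    have := Set.ncard_le_ncard (t := (↑T : Set G)) hno (Finset.finite_toSet T)
    rw [S.ncard_Om, Set.ncard_coe_finset] at this
    omega
  obtain ⟨g, hg, e⟩ := hconj a (hT a ha) f hf
  set T' := T.image fun v => g * v * g⁻¹ with hT'
  have hTc : ∀ u ∈ T, ∀ v ∈ T, Commute u v := fun u hu v hv => S.om_comm (hT u hu) (hT v hv)
  have hT'c : ∀ u ∈ T', ∀ v ∈ T', Commute u v := by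
    simp only [hT', Finset.mem_image]
    rintro _ ⟨u, hu, rfl⟩ _ ⟨v, hv, rfl⟩
    exact (commute_conj_iff g u v).2 (hTc u hu v hv)
  have hT'D : ∀ u ∈ T', u ∈ conjugatesOf d := by
    simp only [hT', Finset.mem_image]
    rintro _ ⟨u, hu, rfl⟩
    exact conj_mem (hT u hu).2 g
  have hT'3 : T'.card ≤ 3 := Finset.card_image_le.trans hT3
  have eT' : pr T' = t' := by rw [hT', pr_image g hTc, eT, hg.eq, mul_inv_cancel_right]
  have hfT' : f ∈ T' := Finset.mem_image.2 ⟨a, ha, e⟩
  have hat : Commute a (pr T') := by rw [eT']; exact S.A_comm (hT a ha).1 ht'A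
  have h1 := S.comm_all hT'D hT'c hT'3 hfT' (hT a ha).2 (S.om_comm (hT a ha) hf) hat
  have h2 : ∀ u ∈ T', ∀ v ∈ T, Commute u v := fun u hu v hv => by
    refine S.comm_all (fun v hv => (hT v hv).2) hTc hT3 ha (hT'D u hu) (h1 u hu).symm ?_ v hv
    rw [eT, ← eT']
    exact Commute.list_prod_right _ _ fun z hz => hT'c u hu z (Finset.mem_toList.1 hz)
  refine hfT ((S.pr_unique (s := T') (t := T) ?_ ?_ hT'3 hT3 (eT'.trans eT.symm)) ▸ hfT')
  · simp only [Finset.mem_union]
    rintro v (hv | hv)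
    exacts [hT'D v hv, (hT v hv).2]
  · simp only [Finset.mem_union]
    rintro u (hu | hu) v (hv | hv)
    exacts [hT'c u hu v hv, h2 u hu v hv, (h2 v hv u hu).symm, hTc u hu v hv]

theorem cross {t x y : G} (hx : x ∈ conjugatesOf d) (hy : y ∈ conjugatesOf d) (htt : t * t = 1) (ht1 : t ≠ 1)
    (htx : Commute t x) (hty : Commute t y) : Rel d x y := by
  obtain ⟨g, hg⟩ := to_d hx
  refine Rel.of_conj (g := g) ?_
  rw [hg]
  refine S.cross_d (t := g * t * g⁻¹) (conj_mem hy g) ?_ (fun e => ht1 ?_) ?_ ((commute_conj_iff g t y).2 hty)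
  · rw [conj_mul, htt, mul_one, mul_inv_cancel]
  · exact mul_left_cancel (mul_right_cancel (e.trans (by group : (1 : G) = g * 1 * g⁻¹)))
  · rw [← hg]; exact (commute_conj_iff g t x).2 htx

/-- A product of two distinct commuting members is not a member. -/
theorem mul_notMem {x a : G} (hx : x ∈ conjugatesOf d) (ha : a ∈ conjugatesOf d) (hxa : Commute x a) (hne : x ≠ a) :
    x * a ∉ conjugatesOf d := fun hm => by
  classical
  have := S.pr_unique (s := {x, a}) (t := {x * a})
    (by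
      simp only [Finset.mem_union, Finset.mem_insert, Finset.mem_singleton]
      rintro v ((rfl | rfl) | rfl) <;> assumption)
    (by
      simp only [Finset.mem_union, Finset.mem_insert, Finset.mem_singleton]
      rintro u ((rfl | rfl) | rfl) v ((rfl | rfl) | rfl)
      exacts [Commute.refl _, hxa, (Commute.refl _).mul_right hxa, hxa.symm, Commute.refl _,
        hxa.symm.mul_right (Commute.refl _), (Commute.refl _).mul_left hxa.symm, hxa.mul_left (Commute.refl _),
        Commute.refl _])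
    (Finset.card_le_two.trans (by norm_num)) (by simp) (by rw [pr_pair hne hxa, pr_singleton])
  have h2 := congrArg Finset.card this
  rw [Finset.card_pair hne, Finset.card_singleton] at h2
  omega

/-- An involution centralising a non-member and a member. -/
theorem exists_between {t e : G} (htt : t * t = 1) (htD : t ∉ conjugatesOf d) (he : e ∈ conjugatesOf d) :
    ∃ u : G, u * u = 1 ∧ u ≠ 1 ∧ Commute u t ∧ Commute u e := by
  have hee := S.sq_of_mem he
  rcases Nat.even_or_odd (orderOf (e * t)) with ⟨m, hm⟩ | ⟨m, hm⟩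
  · have hn : 0 < orderOf (e * t) := orderOf_pos _
    set u := (e * t) ^ m with hu
    have huu : u * u = 1 := by rw [hu, ← pow_add, ← hm, pow_orderOf_eq_one]
    have hue : Commute e u := by
      show e * u = u * e
      rw [hu, invert_pow hee htt, ← hu, inv_eq_of_mul_eq_one_right huu]
    refine ⟨u, huu, fun q => ?_, ?_, hue.symm⟩
    · have := Nat.le_of_dvd (by omega) (orderOf_dvd_of_pow_eq_one q)
      omega
    · have : t = e * (e * t) := by rw [← mul_assoc, hee, one_mul]
      rw [this]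
      exact hue.symm.mul_right (by rw [hu]; exact (Commute.refl (e * t)).pow_left m)
  · exfalso
    refine htD ?_
    have h1 := (invert_pow hee htt m).symm
    have h2 : (e * t) ^ (m + m) = (e * t)⁻¹ := by
      refine eq_inv_of_mul_eq_one_left ?_
      rw [← pow_succ, show m + m + 1 = 2 * m + 1 by omega, ← hm, pow_orderOf_eq_one]
    have : t = e * ((e * t) ^ m)⁻¹ * e * (e * ((e * t) ^ m)⁻¹)⁻¹ := by
      calc t = e * e * ((e * t) ^ m * (e * t) ^ m) * e⁻¹ := by
            rw [← pow_add, h2, hee, one_mul, mul_inv_rev, mul_assoc, ← mul_inv_rev, hee, inv_one, mul_one,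
              inv_eq_of_mul_eq_one_right htt]
        _ = e * (((e * t) ^ m)⁻¹ * e) * (e * t) ^ m * e⁻¹ := by rw [h1]; group
        _ = _ := by group
    rw [this]
    exact conj_mem he _

theorem exists_nb : ∃ f, f ∈ nb (conjugatesOf d) d :=
  Set.nonempty_of_ncard_ne_zero (by rw [S.ncard_nb]; norm_num)

theorem path_d {e : G} (he : e ∈ conjugatesOf d) : ∃ y ∈ conjugatesOf d, Rel d d y ∧ Rel d y e := by
  obtain ⟨f, hf⟩ := S.exists_nb
  set t := d * f with ht
  have htt : t * t = 1 := by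
    rw [ht, (show Commute f d from hf.2.2.symm).mul_mul_mul_comm, S.dd, S.sq_of_mem hf.1, one_mul]
  have ht1 : t ≠ 1 := fun q => hf.2.1 ((eq_inv_of_mul_eq_one_right q).trans (inv_eq_of_mul_eq_one_right S.dd))
  obtain ⟨u, huu, hu1, hut, hue⟩ :=
    S.exists_between htt (S.mul_notMem (IsConj.refl d) hf.1 hf.2.2 (Ne.symm hf.2.1)) he
  obtain ⟨H, hH, huH, htH⟩ := isPGroup_pair huu htt (k := 1) (by
    rw [pow_one, pow_two, hut.symm.mul_mul_mul_comm, huu, htt, one_mul])
  obtain ⟨y, hy, hyH⟩ := S.two_fix hH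
  exact ⟨y, hy, S.cross (IsConj.refl d) hy htt ht1 ((Commute.refl d).mul_left hf.2.2.symm) (hyH t htH),
    S.cross hy he huu hu1 (hyH u huH) hue⟩

theorem rel_step {x a y : G} (hx : x ∈ conjugatesOf d) (ha : a ∈ conjugatesOf d) (hy : y ∈ conjugatesOf d)
    (hxa : Commute x a) (hR : Rel d a y) : Rel d x y := by
  by_cases hne : x = a
  · exact hne ▸ hR
  have htt : (x * a) * (x * a) = 1 := by
    rw [hxa.symm.mul_mul_mul_comm, S.sq_of_mem hx, S.sq_of_mem ha, one_mul]
  obtain ⟨u, huu, hu1, hut, huy⟩ := S.exists_between htt (S.mul_notMem hx ha hxa hne) hy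
  rcases S.pair hx ha hxa hne hut with e | e
  · exact S.cross hx hy huu hu1 (mul_inv_eq_iff_eq_mul.1 e) huy
  · have := hR.conj u
    rw [huy.eq, mul_inv_cancel_right] at this
    rwa [show u * a * u⁻¹ = x by
      rw [← e, inv_eq_of_mul_eq_one_right huu]
      calc u * (u * x * u) * u = (u * u) * x * (u * u) := by group
        _ = x := by rw [huu, one_mul, mul_one]] at this

theorem rel_move {x z y : G} (hx : x ∈ conjugatesOf d) (hz : z ∈ conjugatesOf d) (hy : y ∈ conjugatesOf d)
    (h : Rel d x z) : Rel d z y → Rel d x y := by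
  obtain ⟨w, hw, hwx, hwz⟩ := h
  exact fun hR => S.rel_step hx hw hy hwx.symm (S.rel_step hw hz hy hwz hR)

/-- Any two members have a common commuting member. -/
theorem rel_all {x y : G} (hx : x ∈ conjugatesOf d) (hy : y ∈ conjugatesOf d) : Rel d x y := by
  have hd : d ∈ conjugatesOf d := IsConj.refl d
  obtain ⟨a, ha, hda, hay⟩ := S.path_d hy
  obtain ⟨b, hb, hdb, hbx⟩ := S.path_d hx
  have hdy : Rel d d y := S.rel_move hd ha hy hda hay
  exact S.rel_move hx hb hy hbx.symm (S.rel_move hb hd hy hdb.symm hdy)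

theorem connected (p q : ↥(conjugatesOf d)) :
    Relation.ReflTransGen (fun p q : ↥(conjugatesOf d) => Commute (p : G) q) p q := by
  obtain ⟨w, hw, h1, h2⟩ := S.rel_all p.2 q.2
  exact (Relation.ReflTransGen.single (r := fun p q : ↥(conjugatesOf d) => Commute (p : G) q) (b := ⟨w, hw⟩) h1.symm).tail h2

theorem cube {x y : G} (hx : x ∈ conjugatesOf d) (hy : y ∈ conjugatesOf d) (hc : ¬ Commute x y) :
    (x * y) ^ 3 = 1 := by
  obtain ⟨w, hw, h1, h2⟩ := S.rel_all hx hy
  obtain ⟨g, hg⟩ := to_d hw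
  have tr : ∀ {v : G}, v ∈ conjugatesOf d → Commute w v → v ≠ w → g * v * g⁻¹ ∈ nb (conjugatesOf d) d :=
    fun hv hcv hne => ⟨conj_mem hv g, fun e => hne (mul_left_cancel (mul_right_cancel (e.trans hg.symm))),
      hg ▸ (commute_conj_iff g _ _).2 hcv⟩
  have := S.nb_cube (tr hx h1 fun e => hc (e ▸ h2)) (tr hy h2 fun e => hc (e ▸ h1.symm))
    (fun q => hc ((commute_conj_iff g x y).1 q))
  rw [conj_mul, conj_pow] at this
  have h3 := congrArg (fun v => g⁻¹ * v * g) this
  simpa [mul_assoc] using h3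

theorem tts : Cfsg.IsThreeTranspositionSet (conjugatesOf d) := by
  refine ⟨fun x hx => S.orderOf_of_mem hx, fun x hx y hy => ?_⟩
  by_cases hc : Commute x y
  · left; rw [hc.mul_pow, pow_two, pow_two, S.sq_of_mem hx, S.sq_of_mem hy, one_mul]
  · exact Or.inr (S.cube hx hy hc)

theorem exists_far : ∃ x ∈ conjugatesOf d, ¬ Commute d x := by
  by_contra hno
  simp only [not_exists, not_and, not_not] at hno
  obtain ⟨p, hp, q, hq, hpq, -⟩ := S.P.geo.refl
  obtain ⟨x, hx, rfl⟩ := S.nb_surj hp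
  obtain ⟨y, hy, rfl⟩ := S.nb_surj hq
  refine hpq ((S.nb_commute hx hy).2 ?_)
  obtain ⟨g, hg⟩ := to_d hx.1
  have := hno _ (conj_mem hy.1 g)
  rw [← hg] at this
  exact (commute_conj_iff g x y).1 this

theorem trans_nb {f b : G} (hf : f ∈ nb (conjugatesOf d) d) (hb : b ∈ nb (conjugatesOf d) d) :
    ∃ c : G, Commute c d ∧ c * f * c⁻¹ = b := by
  have h := S.P.geo
  obtain ⟨g, hg⟩ := h.conjD _ (S.nb_im hf) _ (S.nb_im hb) (h.ne_one _ (S.nb_im hf)) (h.ne_one _ (S.nb_im hb))
  obtain ⟨c, hc, rfl⟩ := S.exists_lift g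
  exact ⟨c, hc, S.nb_inj (S.nb_conj hc hf) hb (by rw [S.im_conj hc (S.nb_comm_d hf), hg])⟩

theorem closure_eq_top : Subgroup.closure (conjugatesOf d) = ⊤ := by
  set K := Subgroup.closure (conjugatesOf d) with hK
  have hCK : ∀ {g : G}, Commute g d → g ∈ K := fun hg => by
    have := (S.hsub_eq.symm ▸ mem_C.2 hg : _ ∈ hsub (conjugatesOf d) d)
    exact (Subgroup.closure_mono fun v hv => hv.1) this
  have hnear : ∀ {a b : G}, a ∈ conjugatesOf d → b ∈ conjugatesOf d → ¬ Commute a b → ∃ g ∈ K, g * a * g⁻¹ = b := by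
    intro a b ha hb hc
    obtain ⟨g, hg, e⟩ := S.conj_within ha hb hc
    exact ⟨g, Subgroup.closure_mono (by rintro v (rfl | rfl) <;> assumption) hg, e⟩
  obtain ⟨x, hx, hdx⟩ := S.exists_far
  have hfd : ∃ f ∈ nb (conjugatesOf d) d, ¬ Commute f x := by
    by_contra hno
    simp only [not_exists, not_and, not_not] at hno
    refine hdx ?_
    have hle : hsub (conjugatesOf d) d ≤ Subgroup.centralizer ({x} : Set G) :=
      (Subgroup.closure_le _).2 fun f hf => Subgroup.mem_centralizer_singleton_iff.2 (hno f hf).eq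
    exact Subgroup.mem_centralizer_singleton_iff.1 (hle (S.hsub_eq.symm ▸ mem_C.2 (Commute.refl d)))
  obtain ⟨f, hf, hfx⟩ := hfd
  have hall : ∀ b ∈ conjugatesOf d, ∃ g ∈ K, g * d * g⁻¹ = b := by
    intro b hb
    by_cases hc : Commute d b
    · by_cases hbd : b = d
      · exact ⟨1, one_mem K, by rw [hbd]; group⟩
      obtain ⟨g, hg, e⟩ := hnear (IsConj.refl d) hx hdx
      obtain ⟨g', hg', e'⟩ := hnear hx hf.1 (fun q => hfx q.symm)
      obtain ⟨c, hc', e''⟩ := S.trans_nb hf ⟨hb, hbd, hc⟩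
      exact ⟨c * g' * g, mul_mem (mul_mem (hCK hc') hg') hg, by rw [← e'', ← e', ← e]; group⟩
    · exact hnear (IsConj.refl d) hb hc
  rw [eq_top_iff]
  intro g _
  obtain ⟨k, hk, e⟩ := hall _ (isConj_iff.2 ⟨g, rfl⟩ : g * d * g⁻¹ ∈ conjugatesOf d)
  have hc : Commute (k⁻¹ * g) d := by
    refine mul_inv_eq_iff_eq_mul.1 ?_
    calc k⁻¹ * g * d * (k⁻¹ * g)⁻¹ = k⁻¹ * (g * d * g⁻¹) * k := by group
      _ = d := by rw [← e]; group
  have := mul_mem hk (hCK hc)
  rwa [mul_inv_cancel_left] at this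

theorem class3 : Cfsg.IsThreeTranspositionClass (conjugatesOf d) :=
  ⟨S.tts, ⟨d, IsConj.refl d, rfl⟩, S.closure_eq_top⟩

theorem center : Subgroup.center G = ⊥ := by
  refine eq_bot_iff.2 fun z hz => Subgroup.mem_bot.2 ?_
  have hzd : Commute z d := (Subgroup.mem_center_iff.1 hz d).symm
  have h1 : S.im z ∈ Subgroup.center Q := by
    refine Subgroup.mem_center_iff.2 fun q => ?_
    obtain ⟨c, hc, rfl⟩ := S.exists_lift q
    rw [← S.im_mul hc hzd, ← S.im_mul hzd hc, Subgroup.mem_center_iff.1 hz c]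
  rw [S.P.geo.center, Subgroup.mem_bot] at h1
  rcases S.im_eq (Commute.one_left d) hzd (by rw [S.im_one, h1]) with e | e
  · exact e
  · exfalso
    rw [mul_one] at e
    obtain ⟨x, -, hdx⟩ := S.exists_far
    exact hdx ((Subgroup.mem_center_iff.1 (e ▸ hz) x).symm)

theorem nosol (N : Subgroup G) (hN : N.Normal) (hs : Group.IsSolvable N) : N = ⊥ := by
  have h := S.P.geo
  set C := Subgroup.centralizer ({d} : Set G)
  have hmap : ∀ (M : Subgroup G), M.Normal → Group.IsSolvable M → ∀ x ∈ M, Commute x d → S.im x = 1 := by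
    intro M hM hMs x hx hxd
    haveI := hM
    haveI : (M.subgroupOf C).Normal := inferInstance
    haveI : Group.IsSolvable ↥(M.subgroupOf C) :=
      Group.isSolvable_of_isSolvable_injective (f := (C.subtype.subgroupComap M))
        fun a b e => Subtype.ext (Subtype.ext (congrArg (fun v : ↥M => (v : G)) e))
    have hbot := h.nosol ((M.subgroupOf C).map S.P.ψ) (Subgroup.Normal.map inferInstance _ S.P.surj)
      (solvable_of_surjective (f := S.P.ψ.subgroupMap (M.subgroupOf C)) (S.P.ψ.subgroupMap_surjective _))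
    have := Subgroup.mem_bot.1 (hbot ▸ Subgroup.mem_map_of_mem S.P.ψ (show (⟨x, mem_C.2 hxd⟩ : ↥C) ∈ M.subgroupOf C
      from hx))
    rw [show x = ((⟨x, mem_C.2 hxd⟩ : ↥C) : G) from rfl, S.im_coe, this]
  have hdN : d ∉ N := by
    intro hd
    have htop : N = ⊤ := by
      rw [eq_top_iff, ← S.closure_eq_top, Subgroup.closure_le]
      intro x hx
      obtain ⟨g, rfl⟩ := isConj_iff.1 hx
      exact hN.conj_mem d hd g
    obtain ⟨p, hp, -⟩ := h.refl
    obtain ⟨x, hx, rfl⟩ := S.nb_surj hp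
    exact h.ne_one _ hp (hmap N hN hs x (htop ▸ Subgroup.mem_top x) (S.nb_comm_d hx))
  have hfix : ∀ x ∈ N, Commute x d → x = 1 := by
    intro x hx hxd
    rcases S.im_eq (Commute.one_left d) hxd (by rw [S.im_one, hmap N hN hs x hx hxd]) with e | e
    · exact e
    · exact absurd (by rwa [e, mul_one] at hx) hdN
  -- members invert
  have hinv : ∀ n ∈ N, d * n * d = n⁻¹ := by
    let φ : ↥N → ↥N := fun n => ⟨(n : G)⁻¹ * (d * n * d⁻¹), mul_mem (inv_mem n.2) (hN.conj_mem n n.2 d)⟩
    have hinj : Function.Injective φ := fun a b e => by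
      have e' : (a : G)⁻¹ * (d * a * d⁻¹) = (b : G)⁻¹ * (d * b * d⁻¹) := congrArg Subtype.val e
      refine Subtype.ext (mul_inv_eq_one.1 (hfix _ (mul_mem a.2 (inv_mem b.2)) ?_)).symm.symm
      refine (mul_inv_eq_iff_eq_mul.1 ?_ : Commute d _).symm
      calc d * ((a : G) * (b : G)⁻¹) * d⁻¹ = (d * a * d⁻¹) * (d * b * d⁻¹)⁻¹ := by group
        _ = (a : G) * ((a : G)⁻¹ * (d * a * d⁻¹)) * ((b : G) * ((b : G)⁻¹ * (d * b * d⁻¹)))⁻¹ := by group
        _ = (a : G) * (b : G)⁻¹ := by rw [e']; group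
    intro m hm
    obtain ⟨n, hn⟩ := (Finite.injective_iff_surjective.1 hinj) ⟨m, hm⟩
    have hn' : (n : G)⁻¹ * (d * n * d⁻¹) = m := congrArg Subtype.val hn
    rw [← hn', inv_eq_of_mul_eq_one_right S.dd]
    calc d * ((n : G)⁻¹ * (d * n * d)) * d = d * (n : G)⁻¹ * d * n * (d * d) := by group
      _ = _ := by rw [S.dd, mul_one, mul_inv_rev, inv_inv, mul_inv_rev, mul_inv_rev,
                    inv_eq_of_mul_eq_one_right S.dd, ← mul_assoc d]
  have hinv' : ∀ x ∈ conjugatesOf d, ∀ n ∈ N, x * n * x = n⁻¹ := by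
    intro x hx n hn
    obtain ⟨g, rfl⟩ := isConj_iff.1 hx
    have := hinv _ (hN.conj_mem' n hn g)
    calc g * d * g⁻¹ * n * (g * d * g⁻¹) = g * (d * (g⁻¹ * n * g) * d) * g⁻¹ := by group
      _ = n⁻¹ := by rw [this]; group
  refine eq_bot_iff.2 fun n hn => Subgroup.mem_bot.2 ?_
  obtain ⟨b, hb⟩ := S.exists_nb
  have hc : Commute n (d * b) := by
    have h1 : (d * b) * n * (d * b)⁻¹ = n := by
      rw [mul_inv_rev, inv_eq_of_mul_eq_one_right S.dd, S.inv_of_mem hb.1]
      calc d * b * n * (b * d) = d * (b * n * b) * d := by group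
        _ = n := by rw [hinv' b hb.1 n hn, hinv _ (inv_mem hn), inv_inv]
    exact (mul_inv_eq_iff_eq_mul.1 h1).symm
  rcases S.pair (IsConj.refl d) hb.1 hb.2.2 (Ne.symm hb.2.1) hc with e | e
  · exact hfix n hn (mul_inv_eq_iff_eq_mul.1 e)
  · exfalso
    have h2 : n * n = b * d := by
      have := hinv n hn
      rw [← e]
      calc n * n = n * (d * n⁻¹ * d) := by rw [hinv _ (inv_mem hn), inv_inv]
        _ = n * d * n⁻¹ * d := by group
    have hnn := hfix _ (mul_mem hn hn) (by rw [h2]; exact hb.2.2.symm.mul_left (Commute.refl d))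
    rw [h2] at hnn
    exact hb.2.1 ((eq_inv_of_mul_eq_one_left hnn).trans (inv_eq_of_mul_eq_one_right S.dd))

theorem prim : Cfsg.IsPrimitiveUnderConj (conjugatesOf d) := by
  obtain ⟨f, hf⟩ := S.exists_nb
  exact primitive_of_connected S.class3 S.nosol S.connected ⟨d, IsConj.refl d, f, hf.1, Ne.symm hf.2.1⟩

end Setup

end CfsgLib.TC23
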