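import Cfsg.Agent.TC23.Setup
import Mathlib.GroupTheory.Sylow

/-!
The 23 commuting conjugates form a perfect code in their group, and are the members of a Sylow 2-subgroup.
-/

set_option autoImplicit false
set_option linter.unusedSectionVars false
set_option linter.style.haveILetI false

namespace CfsgLib.TC23

open CfsgLib.ThreeT CfsgLib.ThreeT.Prod CfsgLib.DoubleM22

variable {G : Type*} [Group G]

/-- The product of a finite set of commuting elements. -/
noncomputable def pr (s : Finset G) : G := s.toList.prod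

theorem pr_empty : pr (∅ : Finset G) = 1 := by simp [pr]

theorem pr_singleton (a : G) : pr ({a} : Finset G) = a := by simp [pr]

theorem pr_of_perm {s : Finset G} {l : List G} (h : s.toList.Perm l)
    (hc : ∀ a ∈ s, ∀ b ∈ s, Commute a b) : pr s = l.prod :=
  h.prod_eq' (List.pairwise_of_forall_mem_list fun a ha b hb =>
    hc a (Finset.mem_toList.1 ha) b (Finset.mem_toList.1 hb))

theorem pr_union [DecidableEq G] {s t : Finset G} (hd : Disjoint s t)
    (hc : ∀ a ∈ s ∪ t, ∀ b ∈ s ∪ t, Commute a b) : pr (s ∪ t) = pr s * pr t := by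
  rw [pr_of_perm (l := s.toList ++ t.toList) ?_ hc, List.prod_append]; · rfl
  refine (List.perm_ext_iff_of_nodup (Finset.nodup_toList _) ?_).2 fun a => by simp
  exact List.Nodup.append (Finset.nodup_toList _) (Finset.nodup_toList _) fun a ha hb =>
    Finset.disjoint_left.1 hd (Finset.mem_toList.1 ha) (Finset.mem_toList.1 hb)

theorem pr_insert [DecidableEq G] {a : G} {s : Finset G} (ha : a ∉ s)
    (hc : ∀ x ∈ insert a s, ∀ y ∈ insert a s, Commute x y) : pr (insert a s) = a * pr s := by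
  rw [Finset.insert_eq] at hc ⊢
  rw [pr_union (by simpa using ha) hc, pr_singleton]

theorem pr_pair [DecidableEq G] {a b : G} (hne : a ≠ b) (hc : Commute a b) : pr ({a, b} : Finset G) = a * b := by
  rw [pr_insert (by simpa using hne) (by simp [hc, hc.symm]), pr_singleton]

theorem pr_image [DecidableEq G] {s : Finset G} (g : G) (hc : ∀ a ∈ s, ∀ b ∈ s, Commute a b) :
    pr (s.image fun x => g * x * g⁻¹) = g * pr s * g⁻¹ := by
  rw [pr_of_perm (l := s.toList.map (MulAut.conj g)) ?_ ?_, ← map_list_prod]; · rfl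
  · refine (List.perm_ext_iff_of_nodup (Finset.nodup_toList _) ?_).2 fun a => by simp
    exact (Finset.nodup_toList _).map (MulAut.conj g).injective
  · intro a ha b hb
    obtain ⟨a', ha', rfl⟩ := Finset.mem_image.1 ha
    obtain ⟨b', hb', rfl⟩ := Finset.mem_image.1 hb
    exact (commute_conj_iff g a' b').2 (hc a' ha' b' hb')

theorem pr_sq {s : Finset G} (hc : ∀ a ∈ s, ∀ b ∈ s, Commute a b) (h2 : ∀ a ∈ s, a * a = 1) :
    pr s * pr s = 1 := by
  classical
  induction s using Finset.induction_on with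
  | empty => simp [pr_empty]
  | insert a s ha ih =>
    have hcs : Commute a (pr s) := Commute.list_prod_right _ _ fun z hz =>
      hc a (Finset.mem_insert_self a s) z (Finset.mem_insert_of_mem (Finset.mem_toList.1 hz))
    rw [pr_insert ha hc, hcs.symm.mul_mul_mul_comm, h2 a (Finset.mem_insert_self a s), one_mul]
    exact ih (fun x hx y hy => hc x (Finset.mem_insert_of_mem hx) y (Finset.mem_insert_of_mem hy))
      fun x hx => h2 x (Finset.mem_insert_of_mem hx)

variable [Finite G] {d : G} {Q : Type*} [Group Q] [Finite Q] {E : Set Q}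

namespace Setup

variable (S : Setup d E)

include S

theorem om_comm {x y : G} (hx : x ∈ S.Om) (hy : y ∈ S.Om) : Commute x y := S.A_comm hx.1 hy.1

theorem om_conj {n : G} (hn : ∀ a, a ∈ S.A ↔ n * a * n⁻¹ ∈ S.A) {x : G} (hx : x ∈ S.Om) :
    n * x * n⁻¹ ∈ S.Om := ⟨(hn x).1 hx.1, conj_mem hx.2 n⟩

theorem om_back {x : G} (hx : x ∈ S.Om) : ∃ n : G, n * x * n⁻¹ = d ∧ ∀ y ∈ S.Om, n * y * n⁻¹ ∈ S.Om := by
  obtain ⟨n, hn, e⟩ := S.trans_Om hx
  refine ⟨n⁻¹, by rw [← e]; group, fun y hy => ?_⟩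
  refine ⟨(hn _).2 ?_, conj_mem hy.2 _⟩
  rw [show n * (n⁻¹ * y * n⁻¹⁻¹) * n⁻¹ = y by group]
  exact hy.1

/-- No relation of length at most six. -/
theorem rel6 {s : Finset G} (hs : ∀ x ∈ s, x ∈ S.Om) (h6 : s.card ≤ 6) (e : pr s = 1) : s = ∅ := by
  classical
  by_contra hne
  obtain ⟨r, hr⟩ := Finset.nonempty_iff_ne_empty.2 hne
  obtain ⟨n, hn, hnO⟩ := S.om_back (hs r hr)
  set u := s.image fun x => n * x * n⁻¹ with hu
  have huO : ∀ x ∈ u, x ∈ S.Om := by
    intro x hx
    obtain ⟨y, hy, rfl⟩ := Finset.mem_image.1 hx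
    exact hnO y (hs y hy)
  have hue : pr u = 1 := by
    rw [pr_image n fun a ha b hb => S.om_comm (hs a ha) (hs b hb), e, mul_one, mul_inv_cancel]
  have hd : d ∈ u := Finset.mem_image.2 ⟨r, hr, hn⟩
  have hcu : u.card ≤ 6 := Finset.card_image_le.trans h6
  set w := u.erase d with hw
  have hwc : w.card ≤ 5 := by rw [hw, Finset.card_erase_of_mem hd]; omega
  have hwd : d * pr w = 1 := by
    have : pr (insert d w) = d * pr w := pr_insert (Finset.notMem_erase d u)
      fun a ha b hb => S.om_comm (huO a (Finset.insert_erase hd ▸ ha)) (huO b (Finset.insert_erase hd ▸ hb))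
    rwa [hw, Finset.insert_erase hd, hue, eq_comm, ← hw] at this
  haveI := Fintype.ofFinite ↥S.cl
  have hwO : ∀ x ∈ w, x ∈ S.Om ∧ x ≠ d := fun x hx =>
    ⟨huO x (Finset.mem_of_mem_erase hx), Finset.ne_of_mem_erase hx⟩
  -- the images
  have him : ∀ v : Finset G, v ⊆ w → ∃ t : Finset ↥S.cl, t.card = v.card ∧ S.im (pr v) = cprod S.hcl.comm t ∧
      Commute (pr v) d ∧ ∀ p : ↥S.cl, p ∈ t ↔ ∃ x ∈ v, S.im x = p := by
    intro v
    induction v using Finset.induction_on with
    | empty => exact fun _ => ⟨∅, rfl, by rw [pr_empty, S.im_one]; exact (Finset.noncommProd_empty _ _).symm, by simp [pr_empty], by simp⟩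
    | insert a v ha ih =>
      intro hsub
      obtain ⟨t, ht, et, hct, hmt⟩ := ih fun x hx => hsub (Finset.mem_insert_of_mem hx)
      obtain ⟨haO, had⟩ := hwO a (hsub (Finset.mem_insert_self a v))
      obtain ⟨hac, hai⟩ := S.om_lift haO had
      set p : ↥S.cl := ⟨S.im a, hai⟩
      have hp : p ∉ t := fun hp => by
        obtain ⟨x, hx, ex⟩ := (hmt p).1 hp
        obtain ⟨hxO, hxd⟩ := hwO x (hsub (Finset.mem_insert_of_mem hx))
        exact ha (S.om_inj ⟨haO, had⟩ ⟨hxO, hxd⟩ ex.symm ▸ hx)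
      have hpr : pr (insert a v) = a * pr v := pr_insert ha fun x hx y hy =>
        S.om_comm (hwO x (hsub hx)).1 (hwO y (hsub hy)).1
      refine ⟨insert p t, by rw [Finset.card_insert_of_notMem hp, Finset.card_insert_of_notMem ha, ht], ?_, ?_, ?_⟩
      · rw [hpr, S.im_mul hac hct, et, Finset.insert_eq p t, cprod_union S.hcl.comm (by simpa using hp)]
        simp [cprod, p]
      · rw [hpr]; exact hac.mul_left hct
      · intro q
        simp only [Finset.mem_insert, exists_eq_or_imp, hmt]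
        refine or_congr ⟨fun e => by rw [e], fun e => Subtype.ext e.symm⟩ Iff.rfl
  have h := S.P.geo
  obtain ⟨t, ht, et, -, -⟩ := him w subset_rfl
  have hcw : Commute (pr w) d := by
    rw [show pr w = d⁻¹ from eq_inv_of_mul_eq_one_right hwd]; exact (Commute.refl d).inv_left
  have ht1 : cprod S.hcl.comm t = 1 := by
    rw [← et, show pr w = d from by
      rw [eq_inv_of_mul_eq_one_right hwd, inv_eq_of_mul_eq_one_right S.dd], S.im_d]
  rcases Nat.lt_or_ge t.card 4 with q | q
  · rcases Nat.eq_zero_or_pos t.card with q0 | q0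
    · rw [Finset.card_eq_zero.1 (ht ▸ q0 : w.card = 0), pr_empty, mul_one] at hwd
      exact S.d_ne hwd
    · exact cprod_ne_one S.hcl.comm h S.P.prim S.P.type22 S.hcl.sub q0 (by omega) ht1
  · obtain ⟨a, hat, hac⟩ := Finset.exists_subset_card_eq (show 2 ≤ t.card by omega)
    have hb : (t \ a).card = t.card - 2 := by rw [Finset.card_sdiff_of_subset hat, hac]
    rw [← Finset.union_sdiff_of_subset hat, cprod_union S.hcl.comm Finset.disjoint_sdiff] at ht1
    have e' : cprod S.hcl.comm a = cprod S.hcl.comm (t \ a) :=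
      mul_left_cancel (a := cprod S.hcl.comm a) (by rw [cprod_sq S.hcl.comm h S.hcl.sub, ht1])
    have := cprod_short S.hcl.comm h S.P.prim S.P.type22 S.hcl.sub (by omega) (by omega) (by omega)
      (by omega) e'
    obtain ⟨x, hx⟩ := Finset.card_pos.1 (show 0 < a.card by omega)
    exact (Finset.mem_sdiff.1 (this ▸ hx : x ∈ t \ a)).2 hx

/-- Products of at most three are different. -/
theorem short_unique {s t : Finset G} (hs : ∀ x ∈ s, x ∈ S.Om) (ht : ∀ x ∈ t, x ∈ S.Om) (h3 : s.card ≤ 3)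
    (h3' : t.card ≤ 3) (e : pr s = pr t) : s = t := by
  classical
  have hc : ∀ {u : Finset G}, (∀ x ∈ u, x ∈ S.Om) → ∀ a ∈ u, ∀ b ∈ u, Commute a b :=
    fun hu a ha b hb => S.om_comm (hu a ha) (hu b hb)
  have h1 : pr s = pr (s \ t) * pr (s ∩ t) := by
    rw [← pr_union (Finset.disjoint_sdiff_inter s t) (by rw [Finset.sdiff_union_inter]; exact hc hs),
      Finset.sdiff_union_inter]
  have h2 : pr t = pr (t \ s) * pr (s ∩ t) := by
    rw [Finset.inter_comm, ← pr_union (Finset.disjoint_sdiff_inter t s) (by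
      rw [Finset.sdiff_union_inter]; exact hc ht), Finset.sdiff_union_inter]
  have h3a : pr (s \ t) = pr (t \ s) := mul_right_cancel (h1.symm.trans (e.trans h2))
  have hu : ∀ x ∈ s \ t ∪ t \ s, x ∈ S.Om := fun x hx => by
    rcases Finset.mem_union.1 hx with q | q
    exacts [hs x (Finset.mem_sdiff.1 q).1, ht x (Finset.mem_sdiff.1 q).1]
  have hr := S.rel6 hu ((Finset.card_union_le _ _).trans (by
      have := Finset.card_le_card (Finset.sdiff_subset (s := s) (t := t))
      have := Finset.card_le_card (Finset.sdiff_subset (s := t) (t := s))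
      omega)) (by
    rw [pr_union disjoint_sdiff_sdiff (hc hu), h3a]
    exact pr_sq (hc fun x hx => hu x (Finset.mem_union_right _ hx))
      fun x hx => S.A_sq (hu x (Finset.mem_union_right _ hx)).1)
  rw [Finset.union_eq_empty, Finset.sdiff_eq_empty_iff_subset, Finset.sdiff_eq_empty_iff_subset] at hr
  exact Finset.Subset.antisymm hr.1 hr.2

theorem pr_mem_A {s : Finset G} (hs : ∀ x ∈ s, x ∈ S.Om) : pr s ∈ S.A :=
  list_prod_mem fun x hx => (hs x (Finset.mem_toList.1 hx)).1

/-- Every element is such a product. -/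
theorem exists_short {v : G} (hv : v ∈ S.A) :
    ∃ s : Finset G, (∀ x ∈ s, x ∈ S.Om) ∧ s.card ≤ 3 ∧ pr s = v := by
  classical
  haveI := Fintype.ofFinite G
  set O := S.Om.toFinset
  have hO : O.card = 23 := by rw [← S.ncard_Om, Set.ncard_eq_toFinset_card']
  set F := O.powersetCard 0 ∪ O.powersetCard 1 ∪ (O.powersetCard 2 ∪ O.powersetCard 3) with hF
  have hmem : ∀ {s}, s ∈ F → (∀ x ∈ s, x ∈ S.Om) ∧ s.card ≤ 3 := by
    intro s hs
    simp only [hF, Finset.mem_union, Finset.mem_powersetCard] at hs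
    rcases hs with (⟨h1, h2⟩ | ⟨h1, h2⟩) | (⟨h1, h2⟩ | ⟨h1, h2⟩) <;>
      exact ⟨fun x hx => Set.mem_toFinset.1 (h1 hx), by omega⟩
  have hFc : F.card = 2048 := by
    have dj : ∀ {i j : ℕ}, i ≠ j → Disjoint (O.powersetCard i) (O.powersetCard j) := fun hij =>
      Finset.disjoint_left.2 fun s h1 h2 => hij ((Finset.mem_powersetCard.1 h1).2.symm.trans
        (Finset.mem_powersetCard.1 h2).2)
    rw [hF, Finset.card_union_of_disjoint, Finset.card_union_of_disjoint (dj (by norm_num)),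
      Finset.card_union_of_disjoint (dj (by norm_num))]
    · simp only [Finset.card_powersetCard, hO]; decide
    · simp only [Finset.disjoint_union_left, Finset.disjoint_union_right]
      exact ⟨⟨dj (by norm_num), dj (by norm_num)⟩, dj (by norm_num), dj (by norm_num)⟩
  have hAc : (Set.toFinset (S.A : Set G)).card = 2048 := by
    rw [Set.toFinset_card, ← Nat.card_eq_fintype_card]; exact S.card_A
  have himg : F.image pr = Set.toFinset (S.A : Set G) := by
    refine Finset.eq_of_subset_of_card_le ?_ ?_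
    · intro x hx
      obtain ⟨s, hs, rfl⟩ := Finset.mem_image.1 hx
      exact Set.mem_toFinset.2 (S.pr_mem_A (hmem hs).1)
    · rw [hAc, Finset.card_image_of_injOn fun s hs t ht e =>
        S.short_unique (hmem hs).1 (hmem ht).1 (hmem hs).2 (hmem ht).2 e, hFc]
  obtain ⟨s, hs, e⟩ := Finset.mem_image.1 (himg.symm ▸ Set.mem_toFinset.2 hv : v ∈ F.image pr)
  exact ⟨s, (hmem hs).1, (hmem hs).2, e⟩

theorem A_le_closure : S.A ≤ Subgroup.closure S.Om := fun v hv => by
  obtain ⟨s, hs, -, rfl⟩ := S.exists_short hv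
  exact list_prod_mem fun x hx => Subgroup.subset_closure (hs x (Finset.mem_toList.1 hx))

theorem exists_fixed {x : G} (hx : x * x = 1) (hO : ∀ y ∈ S.Om, x * y * x⁻¹ ∈ S.Om) :
    ∃ w ∈ S.Om, Commute x w := by
  classical
  haveI := Fintype.ofFinite G
  by_contra hno
  simp only [not_exists, not_and] at hno
  have h0 : (∑ _y ∈ S.Om.toFinset, (1 : ZMod 2)) = 0 := by
    refine Finset.sum_involution (fun y _ => x * y * x⁻¹) (fun _ _ => by decide)
      (fun y hy _ e => hno y (Set.mem_toFinset.1 hy) (mul_inv_eq_iff_eq_mul.1 e))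
      (fun y hy => Set.mem_toFinset.2 (hO y (Set.mem_toFinset.1 hy))) fun y _ => ?_
    rw [inv_eq_of_mul_eq_one_right hx]
    calc x * (x * y * x) * x = (x * x) * y * (x * x) := by group
      _ = y := by rw [hx, one_mul, mul_one]
  rw [Finset.sum_const, ← Set.ncard_eq_toFinset_card', S.ncard_Om] at h0
  exact absurd h0 (by decide)

/-- A member normalising the subgroup lies in it. -/
theorem norm_mem {x : G} (hx : x ∈ conjugatesOf d) (hn : ∀ a, a ∈ S.A ↔ x * a * x⁻¹ ∈ S.A) : x ∈ S.Om := by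
  obtain ⟨w, hw, hxw⟩ := S.exists_fixed (S.sq_of_mem hx) fun y hy => S.om_conj hn hy
  obtain ⟨n, hn', rfl⟩ := S.trans_Om hw
  set y := n⁻¹ * x * n with hy
  have hyn : ∀ a ∈ S.A, y * a * y⁻¹ ∈ S.A := fun a ha => by
    refine (hn' _).2 ?_
    rw [show n * (y * a * y⁻¹) * n⁻¹ = x * (n * a * n⁻¹) * x⁻¹ by rw [hy]; group]
    exact (hn _).1 ((hn' a).1 ha)
  have hyD : y ∈ conjugatesOf d := by rw [hy]; simpa using conj_mem hx n⁻¹
  have hxy : x = n * y * n⁻¹ := by rw [hy]; group
  suffices y ∈ S.Om by rw [hxy]; exact S.om_conj hn' this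
  by_cases hyd : y = d
  · rw [hyd]; exact S.d_mem_Om
  have hcy : Commute y d := by rw [hxy] at hxw; exact (commute_conj_iff n y d).1 hxw
  have hyN : y ∈ nb (conjugatesOf d) d := ⟨hyD, hyd, hcy.symm⟩
  have hyE := S.nb_im hyN
  refine ⟨S.mem_A.2 ⟨hcy, Subgroup.subset_closure ?_⟩, hyD⟩
  have h := S.P.geo
  have himg := S.P.image_of_normalizing S.hcl (c := ⟨y, mem_C.2 hcy⟩) fun a ha => by
    obtain ⟨b, hb, e⟩ := hyn (a : G) ⟨a, ha, rfl⟩
    have : b = ⟨y, mem_C.2 hcy⟩ * a * (⟨y, mem_C.2 hcy⟩)⁻¹ := Subtype.ext e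
    exact this ▸ hb
  refine clique_max S.hcl.comm h S.hcl.sub S.hcl.card hyE fun v hv => ?_
  by_contra hnc
  have hv' : S.im y * v * (S.im y)⁻¹ ∈ S.cl := by
    have := Set.mem_image_of_mem (fun z => S.P.ψ ⟨y, mem_C.2 hcy⟩ * z * (S.P.ψ ⟨y, mem_C.2 hcy⟩)⁻¹) hv
    rw [himg] at this
    rwa [← S.im_coe] at this
  rw [h.tt.inv hyE] at hv'
  have hvE := S.hcl.sub hv
  have hc := S.hcl.comm v hv _ hv'
  rw [braid0 h.tt hyE hvE hnc] at hc
  refine hnc ?_
  have e1 := hc.eq
  calc S.im y * v = v * (v * S.im y * v) := by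
        rw [← mul_assoc, ← mul_assoc, h.tt.sq v hvE, one_mul]
    _ = v * S.im y * v * v := e1
    _ = v * S.im y := by rw [mul_assoc _ v v, h.tt.sq v hvE, mul_one]

/-- A Sylow 2-subgroup with just these members. -/
theorem exists_sylow : ∃ T : Sylow 2 G, S.A ≤ T ∧ (∀ x ∈ conjugatesOf d, x ∈ T → x ∈ S.Om) ∧
    ∀ t ∈ T, ∀ a, a ∈ S.A ↔ t * a * t⁻¹ ∈ S.A := by
  haveI : Fact (Nat.Prime 2) := ⟨Nat.prime_two⟩
  obtain ⟨T, hT⟩ := (CfsgLib.DoubleM22.isPGroup_of_sq (H := S.A) fun x hx => S.A_sq hx).exists_le_sylow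
  set N := Subgroup.normalizer (S.A : Set G)
  have hin : ∀ x ∈ conjugatesOf d, x ∈ N → x ∈ S.Om := fun x hx hxN =>
    S.norm_mem hx (Subgroup.mem_normalizer_iff.1 hxN)
  have hle : (T : Subgroup G) ≤ N := by
    haveI : Group.IsNilpotent ↥(T : Subgroup G) := T.isPGroup'.isNilpotent
    have hnc := normalizerCondition_of_isNilpotent (G := ↥(T : Subgroup G))
    set M := N.subgroupOf (T : Subgroup G)
    by_contra hno
    have hlt : M < ⊤ := lt_top_iff_ne_top.2 fun e => hno (Subgroup.subgroupOf_eq_top.1 e)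
    obtain ⟨y, hyN, hyM⟩ := Set.exists_of_ssubset (hnc M hlt)
    have key : ∀ a ∈ S.A, (y : G) * a * (y : G)⁻¹ ∈ S.A := fun a ha => by
      have ha' := S.A_le_closure ha
      clear ha
      induction ha' using Subgroup.closure_induction with
      | mem w hw =>
        refine (hin _ (conj_mem hw.2 y) ?_).1
        have := (Subgroup.mem_normalizer_iff.1 hyN ⟨w, hT hw.1⟩).1
          (Subgroup.le_normalizer (H := S.A) hw.1)
        exact this
      | one => simp
      | mul u v _ _ hu hv =>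
        rw [show (y : G) * (u * v) * (y : G)⁻¹ = ((y : G) * u * (y : G)⁻¹) * ((y : G) * v * (y : G)⁻¹) by group]
        exact mul_mem hu hv
      | inv u _ hu =>
        rw [show (y : G) * u⁻¹ * (y : G)⁻¹ = ((y : G) * u * (y : G)⁻¹)⁻¹ by group]
        exact inv_mem hu
    exact hyM (Subgroup.mem_normalizer_fintype key)
  exact ⟨T, hT, fun x hx hxT => hin x hx (hle hxT), fun t ht => Subgroup.mem_normalizer_iff.1 (hle ht)⟩

/-- The members of a 2-subgroup commute and move into the 23. -/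
theorem clique {H : Subgroup G} (hH : IsPGroup 2 H) :
    ∃ g : G, ∀ x ∈ conjugatesOf d, x ∈ H → g * x * g⁻¹ ∈ S.Om := by
  haveI : Fact (Nat.Prime 2) := ⟨Nat.prime_two⟩
  obtain ⟨T, -, hT, -⟩ := S.exists_sylow
  obtain ⟨T', hT'⟩ := hH.exists_le_sylow
  obtain ⟨g, hg⟩ := MulAction.exists_smul_eq G T' T
  refine ⟨g, fun x hx hxH => hT _ (conj_mem hx g) ?_⟩
  rw [← hg]
  exact Subgroup.smul_mem_pointwise_smul _ (MulAut.conj g) _ (hT' hxH)

theorem two_comm {H : Subgroup G} (hH : IsPGroup 2 H) {x y : G} (hx : x ∈ conjugatesOf d)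
    (hy : y ∈ conjugatesOf d) (hxH : x ∈ H) (hyH : y ∈ H) : Commute x y := by
  obtain ⟨g, hg⟩ := S.clique hH
  exact (commute_conj_iff g x y).1 (S.om_comm (hg x hx hxH) (hg y hy hyH))

theorem clique_of_comm {L : Set G} (hL : L ⊆ conjugatesOf d) (hc : ∀ x ∈ L, ∀ y ∈ L, Commute x y) :
    ∃ g : G, ∀ x ∈ L, g * x * g⁻¹ ∈ S.Om := by
  obtain ⟨g, hg⟩ := S.clique (CfsgLib.DoubleM22.isPGroup_of_sq
    (elementary_closure hc fun x hx => S.sq_of_mem (hL hx)).2)
  exact ⟨g, fun x hx => hg x (hL hx) (Subgroup.subset_closure hx)⟩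

/-- Factorisations into at most three commuting members are unique. -/
theorem pr_unique [DecidableEq G] {s t : Finset G} (hD : ∀ x ∈ s ∪ t, x ∈ conjugatesOf d)
    (hc : ∀ x ∈ s ∪ t, ∀ y ∈ s ∪ t, Commute x y) (h3 : s.card ≤ 3) (h3' : t.card ≤ 3) (e : pr s = pr t) :
    s = t := by
  obtain ⟨g, hg⟩ := S.clique_of_comm (L := ↑(s ∪ t)) hD hc
  have hinj : Function.Injective fun x => g * x * g⁻¹ := fun a b q => mul_left_cancel (mul_right_cancel q)
  refine Finset.image_injective hinj (S.short_unique ?_ ?_ (Finset.card_image_le.trans h3)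
    (Finset.card_image_le.trans h3') ?_)
  · intro x hx
    obtain ⟨y, hy, rfl⟩ := Finset.mem_image.1 hx
    exact hg y (Finset.mem_union_left _ hy)
  · intro x hx
    obtain ⟨y, hy, rfl⟩ := Finset.mem_image.1 hx
    exact hg y (Finset.mem_union_right _ hy)
  · rw [pr_image g fun a ha b hb => hc a (Finset.mem_union_left _ ha) b (Finset.mem_union_left _ hb),
      pr_image g fun a ha b hb => hc a (Finset.mem_union_right _ ha) b (Finset.mem_union_right _ hb), e]

/-- A 2-subgroup centralises a member. -/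
theorem two_fix {H : Subgroup G} (hH : IsPGroup 2 H) : ∃ w ∈ conjugatesOf d, ∀ h ∈ H, Commute h w := by
  classical
  haveI : Fact (Nat.Prime 2) := ⟨Nat.prime_two⟩
  obtain ⟨T, -, -, hT⟩ := S.exists_sylow
  obtain ⟨T', hT'⟩ := hH.exists_le_sylow
  obtain ⟨g, hg⟩ := MulAction.exists_smul_eq G T' T
  let act : MulAction ↥(T : Subgroup G) ↥S.Om :=
    { smul := fun t y => ⟨(t : G) * y * (t : G)⁻¹, S.om_conj (hT t t.2) y.2⟩
      one_smul := fun y => Subtype.ext (show (1 : G) * y * (1 : G)⁻¹ = y by group)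
      mul_smul := fun t u y => Subtype.ext (show (t : G) * u * y * ((t : G) * u)⁻¹ =
        (t : G) * ((u : G) * y * (u : G)⁻¹) * (t : G)⁻¹ by group) }
  have hmod := T.isPGroup'.card_modEq_card_fixedPoints (α := ↥S.Om)
  rw [Nat.card_coe_set_eq, S.ncard_Om] at hmod
  obtain ⟨w, hw⟩ : (MulAction.fixedPoints ↥(T : Subgroup G) ↥S.Om).Nonempty := by
    by_contra hno
    rw [Set.not_nonempty_iff_eq_empty] at hno
    rw [hno, Nat.card_coe_set_eq, Set.ncard_empty] at hmod
    exact absurd hmod (by decide)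
  refine ⟨g⁻¹ * w * g⁻¹⁻¹, conj_mem w.2.2 _, fun h hh => ?_⟩
  have hm : g * h * g⁻¹ ∈ (T : Subgroup G) := by
    rw [← hg]; exact Subgroup.smul_mem_pointwise_smul _ (MulAut.conj g) _ (hT' hh)
  have e : g * h * g⁻¹ * (w : G) * (g * h * g⁻¹)⁻¹ = w := congrArg Subtype.val (hw ⟨_, hm⟩)
  have hc : Commute (g * h * g⁻¹) (w : G) := mul_inv_eq_iff_eq_mul.1 e
  refine (commute_conj_iff g _ _).1 ?_
  rwa [show g * (g⁻¹ * (w : G) * g⁻¹⁻¹) * g⁻¹ = w by group]

end Setup

end CfsgLib.TC23
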