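import Cfsg.Agent.TC23.Tri

/-!
The far members and the common neighbours of a far pair: the numbers.
-/

set_option autoImplicit false
set_option linter.unusedSectionVars false
set_option linter.style.haveILetI false

namespace CfsgLib.TC23

open CfsgLib
open CfsgLib.ThreeT CfsgLib.ThreeT.Prod CfsgLib.DoubleM22

universe u

variable {G : Type u} [Group G] [Finite G] {d : G} {Q : Type*} [Group Q] [Finite Q] {E : Set Q}

/-- The far members. -/
def farSet (d : G) : Set G := {x | x ∈ conjugatesOf d ∧ ¬ Commute d x}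

/-- An orbit under conjugation by a subgroup. -/
theorem card_orbit_mul (K : Subgroup G) (O : Set G) {x : G} (hx : x ∈ O)
    (hst : ∀ k ∈ K, ∀ y ∈ O, k * y * k⁻¹ ∈ O) (htr : ∀ y ∈ O, ∃ k ∈ K, k * x * k⁻¹ = y) :
    O.ncard * Nat.card ↥((Subgroup.centralizer ({x} : Set G)).subgroupOf K) = Nat.card ↥K := by
  let act : MulAction ↥K ↥O :=
    { smul := fun k y => ⟨(k : G) * y * (k : G)⁻¹, hst k k.2 y y.2⟩
      one_smul := fun y => Subtype.ext (show (1 : G) * y * (1 : G)⁻¹ = y by group)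
      mul_smul := fun k l y => Subtype.ext (show (k : G) * l * y * ((k : G) * l)⁻¹ =
        (k : G) * ((l : G) * y * (l : G)⁻¹) * (k : G)⁻¹ by group) }
  have horb : MulAction.orbit ↥K (⟨x, hx⟩ : ↥O) = Set.univ := Set.eq_univ_of_forall fun y => by
    obtain ⟨k, hk, e⟩ := htr y y.2
    exact ⟨⟨k, hk⟩, Subtype.ext e⟩
  have hstab : MulAction.stabilizer ↥K (⟨x, hx⟩ : ↥O) = (Subgroup.centralizer ({x} : Set G)).subgroupOf K := by
    ext k
    rw [MulAction.mem_stabilizer_iff, Subgroup.mem_subgroupOf, Subgroup.mem_centralizer_singleton_iff,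
      Subtype.ext_iff]
    exact mul_inv_eq_iff_eq_mul
  have hcard := Subgroup.card_mul_index (MulAction.stabilizer ↥K (⟨x, hx⟩ : ↥O))
  rw [MulAction.index_stabilizer, horb, Set.ncard_univ, Nat.card_coe_set_eq, hstab, mul_comm] at hcard
  exact hcard

namespace Setup

variable (S : Setup d E)

include S

theorem card_cent : Nat.card ↥(Subgroup.centralizer ({d} : Set G)) = 129123503308800 := by
  have h1 := S.P.card_comap (⊤ : Subgroup Q)
  rw [Subgroup.comap_top, Subgroup.card_top, Subgroup.card_top, (order22 S.P.geo S.P.prim S.P.type22).2] at h1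
  rw [h1]

theorem card_eq : (conjugatesOf d).ncard * 129123503308800 = Nat.card G := by
  have := card_orbit_mul (⊤ : Subgroup G) (conjugatesOf d) (x := d) (IsConj.refl d) (fun k _ y hy => conj_mem hy k)
    fun y hy => by obtain ⟨k, hk⟩ := isConj_iff.1 hy; exact ⟨k, Subgroup.mem_top k, hk⟩
  rw [Subgroup.card_top, Nat.card_congr (Subgroup.subgroupOfEquivOfLe le_top).toEquiv, S.card_cent] at this
  exact this

theorem dvd_card : 23 ∣ Nat.card G := by
  set N := Subgroup.normalizer (S.A : Set G)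
  have := card_orbit_mul N S.Om S.d_mem_Om (fun k hk y hy => S.om_conj (Subgroup.mem_normalizer_iff.1 hk) hy)
    fun y hy => by
      obtain ⟨n, hn, e⟩ := S.trans_Om hy
      exact ⟨n, Subgroup.mem_normalizer_iff.2 hn, e⟩
  rw [S.ncard_Om] at this
  exact (Dvd.intro _ this).trans (Subgroup.card_subgroup_dvd_card N)

theorem dvd_ncard : 23 ∣ (conjugatesOf d).ncard := by
  have h := S.dvd_card
  rw [← S.card_eq] at h
  exact ((Nat.prime_iff_prime_int.2 (by norm_num) : Nat.Prime 23).dvd_mul.1 h).resolve_right (by norm_num)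

theorem ncard_D : (conjugatesOf d).ncard = 3511 + (farSet d).ncard := by
  have h1 : conjugatesOf d = insert d (nb (conjugatesOf d) d ∪ farSet d) := by
    ext y
    constructor
    · intro hy
      by_cases hyd : y = d
      · exact Or.inl hyd
      by_cases hc : Commute d y
      · exact Or.inr (Or.inl ⟨hy, hyd, hc⟩)
      · exact Or.inr (Or.inr ⟨hy, hc⟩)
    · rintro (rfl | h | h)
      exacts [IsConj.refl _, h.1, h.1]
  conv_lhs => rw [h1]
  rw [Set.ncard_insert_of_notMem (fun h => h.elim (fun q => q.2.1 rfl) fun q => q.2 (Commute.refl d)) (Set.toFinite _),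
    Set.ncard_union_eq (Set.disjoint_left.2 fun y hy hy' => hy'.2 hy.2.2) (Set.toFinite _) (Set.toFinite _), S.ncard_nb]
  omega

theorem far_trans {x y : G} (hx : x ∈ farSet d) (hy : y ∈ farSet d) :
    ∃ c : G, Commute c d ∧ c * x * c⁻¹ = y := by
  obtain ⟨a, ha⟩ := S.tri_nonempty hx.1 hx.2
  obtain ⟨b, hb⟩ := S.tri_nonempty hy.1 hy.2
  obtain ⟨c, hc, e⟩ := S.trans_nb ha.1 hb.1
  set x' := c * x * c⁻¹ with hx'
  have hdx' : ¬ Commute d x' := fun q => hx.2 ((commute_conj_iff c d x).1 (by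
    rwa [hc.eq, mul_inv_cancel_right]))
  have hbx' : Commute b x' := by rw [← e]; exact (commute_conj_iff c a x).2 ha.2
  obtain ⟨g, hg⟩ := to_d hb.1.1
  have hgi : Function.Injective fun v : G => g * v * g⁻¹ := fun p q e => mul_left_cancel (mul_right_cancel e)
  have tr : ∀ {v : G}, v ∈ nb (conjugatesOf d) b → g * v * g⁻¹ ∈ nb (conjugatesOf d) d := fun hv =>
    ⟨conj_mem hv.1 g, fun q => hv.2.1 (hgi (q.trans hg.symm)), hg ▸ (commute_conj_iff g _ _).2 hv.2.2⟩
  have hd' := tr ⟨IsConj.refl d, Ne.symm hb.1.2.1, hb.1.2.2.symm⟩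
  have h1 := tr ⟨conj_mem hx.1 c, fun q => hdx' (show Commute d (c * x * c⁻¹) from q ▸ hb.1.2.2), hbx'⟩
  have h2 := tr ⟨hy.1, fun q => hy.2 (q ▸ hb.1.2.2), hb.2⟩
  obtain ⟨q, hq, eq⟩ := CfsgLib.ThreeT.Prod.far_trans S.P.geo (S.nb_im hd') (S.nb_im h1) (S.nb_im h2)
    (fun z => hdx' ((commute_conj_iff g d x').1 ((S.nb_commute hd' h1).1 z)))
    (fun z => hy.2 ((commute_conj_iff g d y).1 ((S.nb_commute hd' h2).1 z)))
  obtain ⟨k, hk, rfl⟩ := S.exists_lift q
  have hkd : Commute (S.im k) (S.im (g * d * g⁻¹)) := by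
    have hle : hsub E (S.im (g * d * g⁻¹)) ≤ Subgroup.centralizer ({S.im (g * d * g⁻¹)} : Set Q) :=
      (Subgroup.closure_le _).2 fun v hv => Subgroup.mem_centralizer_singleton_iff.2 hv.2.2.symm.eq
    exact Subgroup.mem_centralizer_singleton_iff.1 (hle hq)
  have e1 : k * (g * x' * g⁻¹) * k⁻¹ = g * y * g⁻¹ :=
    S.nb_inj (S.nb_conj hk h1) h2 (by rw [S.im_conj hk (S.nb_comm_d h1), eq])
  have e2 : k * (g * d * g⁻¹) * k⁻¹ = g * d * g⁻¹ :=
    S.nb_inj (S.nb_conj hk hd') hd' (by rw [S.im_conj hk (S.nb_comm_d hd'), hkd.eq, mul_inv_cancel_right])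
  refine ⟨g⁻¹ * k * g * c, ?_, ?_⟩
  · refine Commute.mul_left ?_ hc
    refine mul_inv_eq_iff_eq_mul.1 ?_
    calc g⁻¹ * k * g * d * (g⁻¹ * k * g)⁻¹ = g⁻¹ * (k * (g * d * g⁻¹) * k⁻¹) * g := by group
      _ = d := by rw [e2]; group
  · calc g⁻¹ * k * g * c * x * (g⁻¹ * k * g * c)⁻¹ = g⁻¹ * (k * (g * (c * x * c⁻¹) * g⁻¹) * k⁻¹) * g := by group
      _ = y := by rw [← hx', e1]; group

theorem ncard_far_at {b : G} (hb : b ∈ nb (conjugatesOf d) d) :
    {x | x ∈ farSet d ∧ Commute x b}.ncard = 2816 := by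
  have h := S.P.geo
  obtain ⟨g, hg⟩ := to_d hb.1
  have hgi : Function.Injective fun v : G => g * v * g⁻¹ := fun p q e => mul_left_cancel (mul_right_cancel e)
  have tr : ∀ {v : G}, v ∈ nb (conjugatesOf d) b → g * v * g⁻¹ ∈ nb (conjugatesOf d) d := fun hv =>
    ⟨conj_mem hv.1 g, fun q => hv.2.1 (hgi (q.trans hg.symm)), hg ▸ (commute_conj_iff g _ _).2 hv.2.2⟩
  have hd' := tr ⟨IsConj.refl d, Ne.symm hb.2.1, hb.2.2.symm⟩
  set δ := S.im (g * d * g⁻¹)
  have hδ := S.nb_im hd'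
  have hin : ∀ {x : G}, x ∈ farSet d → Commute x b → g * x * g⁻¹ ∈ nb (conjugatesOf d) d := fun hx hc =>
    tr ⟨hx.1, fun q => hx.2 (q ▸ hb.2.2), hc.symm⟩
  rw [Set.ncard_congr (t := {y | y ∈ E ∧ ¬ Commute δ y}) (fun x _ => S.im (g * x * g⁻¹))
    (fun x hx => ⟨S.nb_im (hin hx.1 hx.2),
      fun q => hx.1.2 ((commute_conj_iff g d x).1 ((S.nb_commute hd' (hin hx.1 hx.2)).1 q))⟩)
    (fun x y hx hy e => hgi (S.nb_inj (hin hx.1 hx.2) (hin hy.1 hy.2) e))
    (fun p hp => by
      obtain ⟨l, hl, rfl⟩ := S.nb_surj hp.1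
      have e : g * (g⁻¹ * l * g⁻¹⁻¹) * g⁻¹ = l := by group
      refine ⟨g⁻¹ * l * g⁻¹⁻¹, ⟨⟨conj_mem hl.1 _, fun q => ?_⟩, ?_⟩, by rw [e]⟩
      · have := (commute_conj_iff g _ _).2 q
        rw [e] at this
        exact hp.2 ((S.nb_commute hd' hl).2 this)
      · refine (commute_conj_iff g _ _).1 ?_
        rw [e, hg]; exact hl.2.2.symm)]
  have hdiff : {y | y ∈ E ∧ ¬ Commute δ y} = E \ insert δ (nb E δ) := by
    ext y
    constructor
    · intro hy
      refine ⟨hy.1, fun hm => ?_⟩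
      rcases hm with e | hm
      · exact hy.2 (e ▸ Commute.refl δ)
      · exact hy.2 hm.2.2
    · intro hy
      refine ⟨hy.1, fun hc => hy.2 ?_⟩
      by_cases e : y = δ
      · exact Or.inl e
      · exact Or.inr ⟨hy.1, e, hc⟩
  rw [hdiff, Set.ncard_sdiff (Set.insert_subset hδ fun y hy => hy.1) (Set.toFinite _),
    Set.ncard_insert_of_notMem (fun h' => h'.2.1 rfl) (Set.toFinite _), (h.loc δ hδ).card_nb,
    CfsgLib.ThreeT.Prod.ncard_D h hδ]

omit S in
theorem tri_conj_eq {c x : G} (hc : Commute c d) :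
    tri (conjugatesOf d) d (c * x * c⁻¹) = (fun v => c * v * c⁻¹) '' tri (conjugatesOf d) d x := by
  have hcd : c * d * c⁻¹ = d := by rw [hc.eq, mul_inv_cancel_right]
  ext v
  constructor
  · intro hv
    refine ⟨c⁻¹ * v * c, ⟨⟨?_, fun q => hv.1.2.1 ?_, (commute_conj_iff c _ _).1 ?_⟩, (commute_conj_iff c _ _).1 ?_⟩,
      by group⟩
    · simpa using conj_mem hv.1.1 c⁻¹
    · rw [← hcd, ← q]; group
    · rw [hcd, show c * (c⁻¹ * v * c) * c⁻¹ = v by group]; exact hv.1.2.2
    · rw [show c * (c⁻¹ * v * c) * c⁻¹ = v by group]; exact hv.2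
  · rintro ⟨u, hu, rfl⟩
    exact ⟨⟨conj_mem hu.1.1 c, fun q => hu.1.2.1 (mul_left_cancel (mul_right_cancel (q.trans hcd.symm))),
      hcd ▸ (commute_conj_iff c _ _).2 hu.1.2.2⟩, (commute_conj_iff c _ _).2 hu.2⟩

theorem double_count {x : G} (hx : x ∈ farSet d) :
    (farSet d).ncard * (tri (conjugatesOf d) d x).ncard = 9884160 := by
  classical
  haveI := Fintype.ofFinite G
  have key := Finset.sum_card_bipartiteAbove_eq_sum_card_bipartiteBelow (fun y b : G => Commute y b)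
    (s := (farSet d).toFinset) (t := (nb (conjugatesOf d) d).toFinset)
  have hl : ∀ y ∈ (farSet d).toFinset, ((nb (conjugatesOf d) d).toFinset.bipartiteAbove (fun y b : G => Commute y b) y).card =
      (tri (conjugatesOf d) d x).ncard := by
    intro y hy
    obtain ⟨c, hc, e⟩ := S.far_trans hx (Set.mem_toFinset.1 hy)
    have : (tri (conjugatesOf d) d y).ncard = (tri (conjugatesOf d) d x).ncard := by
      rw [← e, tri_conj_eq hc]
      exact Set.ncard_image_of_injective _ fun p q e => mul_left_cancel (mul_right_cancel e)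
    rw [← this, Set.ncard_eq_toFinset_card']
    congr 1
    ext b
    simp only [Finset.mem_bipartiteAbove, Set.mem_toFinset]
    exact ⟨fun h => ⟨h.1, h.2.symm⟩, fun h => ⟨h.1, h.2.symm⟩⟩
  have hr : ∀ b ∈ (nb (conjugatesOf d) d).toFinset,
      ((farSet d).toFinset.bipartiteBelow (fun y b : G => Commute y b) b).card = 2816 := by
    intro b hb
    rw [← S.ncard_far_at (Set.mem_toFinset.1 hb), Set.ncard_eq_toFinset_card']
    congr 1
    ext y
    simp only [Finset.mem_bipartiteBelow, Set.mem_toFinset]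
    exact Iff.rfl
  rw [Finset.sum_congr rfl hl, Finset.sum_congr rfl hr, Finset.sum_const, Finset.sum_const, smul_eq_mul,
    smul_eq_mul, ← Set.ncard_eq_toFinset_card', ← Set.ncard_eq_toFinset_card', S.ncard_nb] at key
  rw [key]

theorem ncard_far_dvd {x : G} (hx : x ∈ farSet d) : (farSet d).ncard ∣ 28160 := by
  set C := Subgroup.centralizer ({d} : Set G)
  obtain ⟨φ, hinj, -, hrange⟩ := S.exists_hom hx.1 hx.2
  have hle : φ.range ≤ C ⊓ Subgroup.centralizer ({x} : Set G) := hrange.trans ((Subgroup.closure_le _).2 fun v hv =>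
    ⟨mem_C.2 hv.1.2.2.symm, Subgroup.mem_centralizer_singleton_iff.2 hv.2.eq⟩)
  have h := card_orbit_mul C (farSet d) hx
    (fun k hk y hy => ⟨conj_mem hy.1 k, fun q => hy.2 ((commute_conj_iff k d y).1 (by
      rw [(mem_C.1 hk).eq, mul_inv_cancel_right]; exact q))⟩)
    fun y hy => by
      obtain ⟨c, hc, e⟩ := S.far_trans hx hy
      exact ⟨c, mem_C.2 hc, e⟩
  obtain ⟨t, ht⟩ := Subgroup.card_dvd_of_le hle
  have hsub : Nat.card ↥((Subgroup.centralizer ({x} : Set G)).subgroupOf C) =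
      Nat.card ↥(C ⊓ Subgroup.centralizer ({x} : Set G)) := by
    rw [inf_comm, ← Subgroup.inf_subgroupOf_right]
    exact Nat.card_congr (Subgroup.subgroupOfEquivOfLe inf_le_right).toEquiv
  rw [S.card_cent, hsub, ht, ← Nat.card_congr (MonoidHom.ofInjective hinj).toEquiv,
    Coset.O73.card_and_injective.1] at h
  exact ⟨t, Nat.eq_of_mul_eq_mul_left (by norm_num : 0 < 4585351680) (by rw [← mul_assoc, mul_comm 4585351680 (farSet d).ncard, mul_assoc, h])⟩

/-- At least 351 common neighbours means exactly 351. -/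
theorem ncard_tri {x : G} (hx : x ∈ farSet d) (h351 : 351 ≤ (tri (conjugatesOf d) d x).ncard) :
    (tri (conjugatesOf d) d x).ncard = 351 := by
  have hv : (tri (conjugatesOf d) d x).ncard ≤ 3510 :=
    S.ncard_nb ▸ Set.ncard_le_ncard (fun v hv => hv.1) (Set.toFinite _)
  have h1 := S.double_count hx
  obtain ⟨k, hk⟩ := S.ncard_far_dvd hx
  have h2 := S.dvd_ncard
  rw [S.ncard_D] at h2
  set F := (farSet d).ncard
  set v := (tri (conjugatesOf d) d x).ncard
  have hF : 0 < F := Nat.pos_of_ne_zero fun e => by rw [e] at hk; omega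
  have hvk : v = 351 * k := Nat.eq_of_mul_eq_mul_left hF (by
    rw [h1, ← mul_assoc, mul_comm F 351, mul_assoc, ← hk]; norm_num)
  have hk10 : k ≤ 10 := by omega
  have hk1 : 1 ≤ k := by omega
  interval_cases k <;> omega

end Setup

end CfsgLib.TC23
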