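import Cfsg.Agent.TC23.Loc
import Cfsg.Agent.Spor3T.M23Iso

/-!
Eight common neighbours of a far pair with the diagram of the generators, and one more.
-/

set_option autoImplicit false
set_option linter.unusedSectionVars false
set_option linter.style.haveILetI false

namespace CfsgLib.TC23

open CfsgLib.ThreeT CfsgLib.ThreeT.Prod CfsgLib.DoubleM22
open QuadraticMap

universe u

/-- The basis vectors. -/
def e6 (i : Fin 6) : V6 := Pi.single i 1

/-- A root at the end of the chain. -/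
def r0 : V6 := ![1, 0, 0, 0, 1, 1]

/-- Its partner. -/
def r0' : V6 := ![1, 0, 0, 0, 2, 2]

theorem e6_val : ∀ i, chainVal 1 (e6 i) = 1 := by
  unfold e6 chainVal
  decide +kernel

theorem r0_val : chainVal 1 r0 = 1 ∧ chainVal 1 r0' = 1 := by
  unfold r0 r0' chainVal
  decide +kernel

theorem r0_pol : (∀ i, polar (chainVal 1) r0 (e6 i) = 0 ↔ (i = 2 ∨ i = 4 ∨ i = 5)) ∧
    (∀ i, polar (chainVal 1) r0' (e6 i) = 0 ↔ (i = 2 ∨ i = 4 ∨ i = 5)) ∧
    polar (chainVal 1) r0 r0' ≠ 0 := by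
  unfold r0 r0' e6 QuadraticMap.polar chainVal
  decide +kernel

theorem r0_ne : (∀ i, r0 ≠ e6 i ∧ r0 ≠ -e6 i ∧ r0' ≠ e6 i ∧ r0' ≠ -e6 i) ∧ r0 ≠ r0' ∧ r0 ≠ -r0' := by
  unfold r0 r0' e6
  decide +kernel

theorem e6_pol : ∀ i j, i ≠ j → (polar (chainVal 1) (e6 i) (e6 j) = 0 ↔ ¬ Adj6 i j) := by
  unfold e6 QuadraticMap.polar chainVal
  decide +kernel

theorem e6_ne : ∀ i j, i ≠ j → e6 i ≠ e6 j ∧ e6 i ≠ -e6 j := by
  unfold e6
  decide +kernel

theorem forced_adj : ∀ v : V6, chainVal 1 v = 1 → polar (chainVal 1) v (e6 0) = 0 →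
    polar (chainVal 1) v (e6 3) = 0 → polar (chainVal 1) v (e6 4) = 0 → polar (chainVal 1) v (e6 5) = 0 →
    polar (chainVal 1) v (e6 2) ≠ 0 → polar (chainVal 1) v (e6 1) ≠ 0 ∧ v ≠ e6 1 ∧ v ≠ -e6 1 := by
  unfold e6 QuadraticMap.polar chainVal
  decide +kernel

theorem sum_zero : ∀ a b c k : ZMod 3, (a ≠ 0 ∧ b ≠ 0 ∧ c ≠ 0 ∧ k ≠ 0 ∧ k ≠ 1 ∧ a + c = k * (a + b)) → a + b = 0 := by
  decide +kernel

theorem ne_of_pol {u v k : V6} (h1 : polar (⇑f6) u k = 0) (h2 : polar (⇑f6) v k ≠ 0) :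
    u ≠ v ∧ u ≠ -v :=
  ⟨fun e => h2 (e ▸ h1), fun e => h2 (by rw [e, polar_neg_left] at h1; exact neg_eq_zero.1 h1)⟩

theorem pol_comb {η u p q : V6} (a l : ZMod 3) (hu : polar (⇑f6) η u = 0) (hpq : polar (⇑f6) η (p + q) = 0) :
    polar (⇑f6) η (a • u + l • (p + q)) = 0 := by
  rw [polar_add_right, polar_smul_right, polar_smul_right, hu, hpq, smul_zero, smul_zero, add_zero]

theorem sep {G : Type*} [Mul G] {a b c : G} (h1 : Commute a c) (h2 : ¬ Commute b c) : a ≠ b := fun e => h2 (e ▸ h1)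

variable {G : Type u} [Group G] [Finite G] {d : G} {Q : Type*} [Group Q] [Finite Q] {E : Set Q}

namespace Setup

variable (S : Setup d E) {x : G} (hx : x ∈ conjugatesOf d) (hdx : ¬ Commute d x)

include S hx hdx

theorem tri_nonempty : ∃ a, a ∈ tri (conjugatesOf d) d x := by
  obtain ⟨w, hw, h1, h2⟩ := S.rel_all (IsConj.refl d) hx
  exact ⟨w, ⟨hw, fun e => hdx (e ▸ h2), h1.symm⟩, h2⟩

theorem exists_eight : ∃ w : Fin 8 → G, ∃ p : G, (∀ i, w i ∈ tri (conjugatesOf d) d x) ∧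
    p ∈ tri (conjugatesOf d) d x ∧ (∀ i j, i ≠ j → (Commute (w i) (w j) ↔ ¬ Adj8 i j)) ∧
    ∀ i, Commute p (w i) ↔ (i ≠ 1 ∧ i ≠ 2) := by
  classical
  -- the chain at the last member
  obtain ⟨w7, hw7⟩ := S.tri_nonempty hx hdx
  obtain ⟨F, M⟩ := exists_model S hx hdx hw7
  have he : ∀ i, f6 (e6 i) = 1 := fun i => (f6_apply _).trans (e6_val i)
  have hr : f6 r0 = 1 := (f6_apply _).trans r0_val.1
  have hr' : f6 r0' = 1 := (f6_apply _).trans r0_val.2
  set w0 := F (e6 0) with hw0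
  set w1 := F (e6 1) with hw1
  set w2 := F (e6 2) with hw2
  set w3 := F (e6 3) with hw3
  set w4 := F (e6 4) with hw4
  set w5 := F (e6 5) with hw5
  set y0 := F r0 with hy0
  set y0' := F r0' with hy0'
  have hch : ∀ i j, i ≠ j → (Commute (F (e6 i)) (F (e6 j)) ↔ ¬ Adj6 i j) := fun i j hij => by
    rw [M.comm _ _ (he i) (he j), or_iff_right (e6_ne i j hij).1, or_iff_right (e6_ne i j hij).2, f6_polar,
      e6_pol i j hij]
  have hed : ∀ i j, i ≠ j → F (e6 i) ≠ F (e6 j) := fun i j hij e =>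
    (M.inj _ _ (he i) (he j) e).elim (e6_ne i j hij).1 (e6_ne i j hij).2
  have cy : ∀ i, Commute y0 (F (e6 i)) ↔ (i = 2 ∨ i = 4 ∨ i = 5) := fun i => by
    rw [hy0, M.comm _ _ hr (he i), or_iff_right (r0_ne.1 i).1, or_iff_right (r0_ne.1 i).2.1, f6_polar, r0_pol.1 i]
  have cy' : ∀ i, Commute y0' (F (e6 i)) ↔ (i = 2 ∨ i = 4 ∨ i = 5) := fun i => by
    rw [hy0', M.comm _ _ hr' (he i), or_iff_right (r0_ne.1 i).2.2.1, or_iff_right (r0_ne.1 i).2.2.2, f6_polar,
      r0_pol.2.1 i]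
  have cyy : ¬ Commute y0 y0' := fun q => by
    rcases (M.comm _ _ hr hr').1 q with e | e | e
    exacts [r0_ne.2.1 e, r0_ne.2.2 e, r0_pol.2.2 ((f6_polar _ _).symm.trans e)]
  have dy : ∀ i, y0 ≠ F (e6 i) := fun i e => (M.inj _ _ hr (he i) e).elim (r0_ne.1 i).1 (r0_ne.1 i).2.1
  have dy' : ∀ i, y0' ≠ F (e6 i) := fun i e => (M.inj _ _ hr' (he i) e).elim (r0_ne.1 i).2.2.1 (r0_ne.1 i).2.2.2
  have m : ∀ v, f6 v = 1 → F v ∈ conjugatesOf d ∧ F v ≠ w7 ∧ Commute (F v) w7 := fun v hv =>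
    ⟨(M.mem v hv).2.1, (M.mem v hv).2.2.1, (M.mem v hv).2.2.2.symm⟩
  have hT : ∀ i, F (e6 i) ∈ tri (conjugatesOf d) d x := fun i => (M.mem _ (he i)).1
  have nbm : ∀ {b a : G}, b ∈ conjugatesOf d → b ≠ a → Commute b a → b ∈ nb (conjugatesOf d) a :=
    fun h1 h2 h3 => ⟨h1, h2, h3.symm⟩
  have n7 : ∀ i, w7 ∈ nb (conjugatesOf d) (F (e6 i)) := fun i =>
    nbm hw7.1.1 (Ne.symm (m _ (he i)).2.1) (m _ (he i)).2.2.symm
  have nee : ∀ i j, i ≠ j → ¬ Adj6 i j → F (e6 i) ∈ nb (conjugatesOf d) (F (e6 j)) := fun i j hij h =>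
    nbm (m _ (he i)).1 (hed i j hij) ((hch i j hij).2 h)
  -- the branch, at the first member
  obtain ⟨F₀, M₀⟩ := exists_model S hx hdx (hT 0)
  obtain ⟨z2, hz2, f2⟩ := M₀.surj w2 (hT 2) (nee 2 0 (by decide) (by decide))
  obtain ⟨z3₀, hz3₀, f3₀⟩ := M₀.surj w3 (hT 3) (nee 3 0 (by decide) (by decide))
  obtain ⟨z4₀, hz4₀, f4₀⟩ := M₀.surj w4 (hT 4) (nee 4 0 (by decide) (by decide))
  obtain ⟨z5₀, hz5₀, f5₀⟩ := M₀.surj w5 (hT 5) (nee 5 0 (by decide) (by decide))
  obtain ⟨z7, hz7, f7⟩ := M₀.surj w7 hw7 (n7 0)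
  obtain ⟨z3, hz3, f3', p23⟩ := exists_sign M₀ hz3₀ (M₀.pol_ne hz2 hz3₀ (by
    rw [f2, f3₀]; exact fun q => (hch 2 3 (by decide)).1 q (by decide))) 1 one_ne
  have f3 : F₀ z3 = w3 := f3'.trans f3₀
  obtain ⟨z4, hz4, f4', p34⟩ := exists_sign M₀ hz4₀ (M₀.pol_ne hz3 hz4₀ (by
    rw [f3, f4₀]; exact fun q => (hch 3 4 (by decide)).1 q (by decide))) 1 one_ne
  have f4 : F₀ z4 = w4 := f4'.trans f4₀
  obtain ⟨z5, hz5, f5', p45⟩ := exists_sign M₀ hz5₀ (M₀.pol_ne hz4 hz5₀ (by
    rw [f4, f5₀]; exact fun q => (hch 4 5 (by decide)).1 q (by decide))) 1 one_ne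
  have f5 : F₀ z5 = w5 := f5'.trans f5₀
  have p24 : polar (⇑f6) z2 z4 = 0 := M₀.pol_eq hz2 hz4
    (by rw [f2, f4]; exact (hch 2 4 (by decide)).2 (by decide)) (by rw [f2, f4]; exact hed 2 4 (by decide))
  have p25 : polar (⇑f6) z2 z5 = 0 := M₀.pol_eq hz2 hz5
    (by rw [f2, f5]; exact (hch 2 5 (by decide)).2 (by decide)) (by rw [f2, f5]; exact hed 2 5 (by decide))
  have p35 : polar (⇑f6) z3 z5 = 0 := M₀.pol_eq hz3 hz5
    (by rw [f3, f5]; exact (hch 3 5 (by decide)).2 (by decide)) (by rw [f3, f5]; exact hed 3 5 (by decide))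
  have p7 : ∀ {z : V6} (i : Fin 6), f6 z = 1 → F₀ z = F (e6 i) → polar (⇑f6) z z7 = 0 := fun i hz e =>
    M₀.pol_eq hz hz7 (by rw [e, f7]; exact (m _ (he i)).2.2) (by rw [e, f7]; exact (m _ (he i)).2.1)
  have p27 := p7 2 hz2 f2
  have p37 := p7 3 hz3 f3
  have p47 := p7 4 hz4 f4
  have p57 := p7 5 hz5 f5
  have p32 : polar (⇑f6) z3 z2 = 1 := by rw [polar_comm]; exact p23
  have p43 : polar (⇑f6) z4 z3 = 1 := by rw [polar_comm]; exact p34
  have p54 : polar (⇑f6) z5 z4 = 1 := by rw [polar_comm]; exact p45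
  have p42 : polar (⇑f6) z4 z2 = 0 := by rw [polar_comm]; exact p24
  have p52 : polar (⇑f6) z5 z2 = 0 := by rw [polar_comm]; exact p25
  have p53 : polar (⇑f6) z5 z3 = 0 := by rw [polar_comm]; exact p35
  have p72 : polar (⇑f6) z7 z2 = 0 := by rw [polar_comm]; exact p27
  have p73 : polar (⇑f6) z7 z3 = 0 := by rw [polar_comm]; exact p37
  have p74 : polar (⇑f6) z7 z4 = 0 := by rw [polar_comm]; exact p47
  have p75 : polar (⇑f6) z7 z5 = 0 := by rw [polar_comm]; exact p57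
  have s2 := f6_self hz2
  have s3 := f6_self hz3
  have s4 := f6_self hz4
  have s5 := f6_self hz5
  have s7 := f6_self hz7
  set zg := z4 + z5 + -z7 with hzg
  set zp := z2 + -z4 + -z5 with hzp
  have hg1 : f6 zg = 1 := by
    rw [hzg, QuadraticMap.map_add (⇑f6), QuadraticMap.map_add (⇑f6), QuadraticMap.map_neg, hz4, hz5, hz7, p45,
      polar_neg_right, polar_add_left, p47, p57]
    decide
  have hp1 : f6 zp = 1 := by
    rw [hzp, QuadraticMap.map_add (⇑f6), QuadraticMap.map_add (⇑f6), QuadraticMap.map_neg, QuadraticMap.map_neg,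
      hz2, hz4, hz5, polar_neg_right, polar_neg_right, p24, polar_add_left, polar_neg_left, p25, p45]
    decide
  have g2 : polar (⇑f6) zg z2 = 0 := by
    rw [hzg, polar_add_left, polar_add_left, polar_neg_left, p42, p52, p72]; decide
  have g3 : polar (⇑f6) zg z3 = 1 := by
    rw [hzg, polar_add_left, polar_add_left, polar_neg_left, p43, p53, p73]; decide
  have g4 : polar (⇑f6) zg z4 = 0 := by
    rw [hzg, polar_add_left, polar_add_left, polar_neg_left, s4, p54, p74]; decide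
  have g5 : polar (⇑f6) zg z5 = 0 := by
    rw [hzg, polar_add_left, polar_add_left, polar_neg_left, p45, s5, p75]; decide
  have g7 : polar (⇑f6) zg z7 = 1 := by
    rw [hzg, polar_add_left, polar_add_left, polar_neg_left, p47, p57, s7]; decide
  have q2 : polar (⇑f6) zp z2 = 2 := by
    rw [hzp, polar_add_left, polar_add_left, polar_neg_left, polar_neg_left, s2, p42, p52]; decide
  have q3 : polar (⇑f6) zp z3 = 0 := by
    rw [hzp, polar_add_left, polar_add_left, polar_neg_left, polar_neg_left, p23, p43, p53]; decide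
  have q4 : polar (⇑f6) zp z4 = 0 := by
    rw [hzp, polar_add_left, polar_add_left, polar_neg_left, polar_neg_left, p24, s4, p54]; decide
  have q5 : polar (⇑f6) zp z5 = 0 := by
    rw [hzp, polar_add_left, polar_add_left, polar_neg_left, polar_neg_left, p25, p45, s5]; decide
  have q7 : polar (⇑f6) zp z7 = 0 := by
    rw [hzp, polar_add_left, polar_add_left, polar_neg_left, polar_neg_left, p27, p47, p57]; decide
  have qg : polar (⇑f6) zp zg = 0 := by
    rw [hzg, polar_add_right, polar_add_right, polar_neg_right, q4, q5, q7]; decide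
  have nz : (1 : ZMod 3) ≠ 0 := by decide
  obtain ⟨hgT, hg0D, hg0ne, hg0c⟩ := M₀.mem zg hg1
  obtain ⟨hpT, hp0D, hp0ne, hp0c⟩ := M₀.mem zp hp1
  set w6 := F₀ zg with hw6
  set p := F₀ zp with hp
  have c62 : Commute w6 w2 := by rw [← f2]; exact M₀.comm_of_zero hg1 hz2 g2
  have c64 : Commute w6 w4 := by rw [← f4]; exact M₀.comm_of_zero hg1 hz4 g4
  have c65 : Commute w6 w5 := by rw [← f5]; exact M₀.comm_of_zero hg1 hz5 g5
  have n63 : ¬ Commute w6 w3 := by
    obtain ⟨a, b⟩ := ne_of_pol (v := z3) g4 (by rw [p34]; exact nz)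
    rw [← f3]; exact M₀.not_comm hg1 hz3 (by rw [g3]; exact nz) a b
  have n67 : ¬ Commute w6 w7 := by
    obtain ⟨a, b⟩ := ne_of_pol (v := zg) p73 (by rw [g3]; exact nz)
    rw [← f7]
    exact M₀.not_comm hg1 hz7 (by rw [g7]; exact nz) a.symm fun e => b (by rw [e, neg_neg])
  have np2 : ¬ Commute p w2 := by
    obtain ⟨a, b⟩ := ne_of_pol (v := z2) q3 (by rw [p23]; exact nz)
    rw [← f2]; exact M₀.not_comm hp1 hz2 (by rw [q2]; decide) a b
  have cp3 : Commute p w3 := by rw [← f3]; exact M₀.comm_of_zero hp1 hz3 q3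
  have cp4 : Commute p w4 := by rw [← f4]; exact M₀.comm_of_zero hp1 hz4 q4
  have cp5 : Commute p w5 := by rw [← f5]; exact M₀.comm_of_zero hp1 hz5 q5
  have cp7 : Commute p w7 := by rw [← f7]; exact M₀.comm_of_zero hp1 hz7 q7
  have cp6 : Commute p w6 := M₀.comm_of_zero hp1 hg1 qg
  have c7 : ∀ i, Commute w7 (F (e6 i)) := fun i => (m _ (he i)).2.2.symm
  have n6 : ∀ i, F (e6 i) ≠ w6 := fun i => sep (c7 i).symm n67
  have d6y : y0 ≠ w6 := sep (m _ hr).2.2 n67
  have d6y' : y0' ≠ w6 := sep (m _ hr').2.2 n67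
  -- the two roots at the end commute with the branch
  obtain ⟨c6y, c6y'⟩ : Commute y0 w6 ∧ Commute y0' w6 := by
    obtain ⟨F₂, M₂⟩ := exists_model S hx hdx (hT 2)
    obtain ⟨v, hv, fv⟩ := M₂.surj w0 (hT 0) (nee 0 2 (by decide) (by decide))
    obtain ⟨u, hu, fu⟩ := M₂.surj w7 hw7 (n7 2)
    obtain ⟨a, ha, fa⟩ := M₂.surj w4 (hT 4) (nee 4 2 (by decide) (by decide))
    obtain ⟨b₀, hb₀, fb₀⟩ := M₂.surj w5 (hT 5) (nee 5 2 (by decide) (by decide))
    obtain ⟨b, hb, fb', pab⟩ := exists_sign M₂ hb₀ (M₂.pol_ne ha hb₀ (by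
      rw [fa, fb₀]; exact fun q => (hch 4 5 (by decide)).1 q (by decide))) 1 one_ne
    have fb : F₂ b = w5 := fb'.trans fb₀
    obtain ⟨g, hg, fg⟩ := M₂.surj w6 hgT (nbm hg0D (Ne.symm (n6 2)) c62)
    have z0 : ∀ {s t : V6} {S' T' : G}, f6 s = 1 → f6 t = 1 → F₂ s = S' → F₂ t = T' → Commute S' T' → S' ≠ T' →
        polar (⇑f6) s t = 0 := fun hs ht es et hc hne => M₂.pol_eq hs ht (by rwa [es, et]) (by rwa [es, et])
    obtain ⟨α, l, hgl⟩ := span_root (v := v) (u := u) (p := a) (q := b) (z := g) hv hu ha hb hg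
      (z0 hv hu fv fu (c7 0).symm (m _ (he 0)).2.1)
      (z0 hv ha fv fa ((hch 0 4 (by decide)).2 (by decide)) (hed 0 4 (by decide)))
      (z0 hv hb fv fb ((hch 0 5 (by decide)).2 (by decide)) (hed 0 5 (by decide)))
      (z0 hu ha fu fa (c7 4) (Ne.symm (m _ (he 4)).2.1))
      (z0 hu hb fu fb (c7 5) (Ne.symm (m _ (he 5)).2.1))
      pab (z0 hv hg fv fg hg0c (n6 0)) (z0 ha hg fa fg c64.symm (n6 4)) (z0 hb hg fb fg c65.symm (n6 5))
      (M₂.pol_ne hu hg (by rw [fu, fg]; exact fun q => n67 q.symm))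
      (fun e => hed 4 5 (by decide) (by
        show w4 = w5
        rw [← fa, ← fb, eq_neg_of_add_eq_zero_right e, M₂.neg a ha]))
    have key : ∀ r, f6 r = 1 → Commute (F r) w2 → F r ≠ w2 → Commute (F r) w4 → F r ≠ w4 → Commute (F r) w5 →
        F r ≠ w5 → Commute (F r) w6 := by
      intro r hr2 c2 d2 c4 d4 c5 d5
      obtain ⟨η, hη, fη⟩ := M₂.surj _ (M.mem r hr2).1 (nbm (m r hr2).1 d2 c2)
      rw [← fη, ← fg]
      refine M₂.comm_of_zero hη hg ?_
      rw [hgl]
      refine pol_comb α l (z0 hη hu fη fu (m r hr2).2.2 (m r hr2).2.1) ?_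
      rw [polar_add_right, z0 hη ha fη fa c4 d4, z0 hη hb fη fb c5 d5, add_zero]
    exact ⟨key r0 hr ((cy 2).2 (by decide)) (dy 2) ((cy 4).2 (by decide)) (dy 4) ((cy 5).2 (by decide)) (dy 5),
      key r0' hr' ((cy' 2).2 (by decide)) (dy' 2) ((cy' 4).2 (by decide)) (dy' 4) ((cy' 5).2 (by decide)) (dy' 5)⟩
  -- the second member commutes with the branch
  have c61 : Commute w1 w6 := by
    obtain ⟨F₄, M₄⟩ := exists_model S hx hdx (hT 4)
    obtain ⟨v, hv, fv⟩ := M₄.surj w2 (hT 2) (nee 2 4 (by decide) (by decide))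
    obtain ⟨u, hu, fu⟩ := M₄.surj w7 hw7 (n7 4)
    obtain ⟨a, ha, fa⟩ := M₄.surj w0 (hT 0) (nee 0 4 (by decide) (by decide))
    obtain ⟨g, hg, fg⟩ := M₄.surj w6 hgT (nbm hg0D (Ne.symm (n6 4)) c64)
    obtain ⟨y, hy, fy⟩ := M₄.surj w1 (hT 1) (nee 1 4 (by decide) (by decide))
    obtain ⟨b₀, hb₀, fb₀⟩ := M₄.surj y0 (M.mem _ hr).1 (nbm (m _ hr).1 (dy 4) ((cy 4).2 (by decide)))
    obtain ⟨b₁, hb₁, fb₁⟩ := M₄.surj y0' (M.mem _ hr').1 (nbm (m _ hr').1 (dy' 4) ((cy' 4).2 (by decide)))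
    have n0y : ¬ Commute w0 y0 := fun q => by simpa using (cy 0).1 q.symm
    have n0y' : ¬ Commute w0 y0' := fun q => by simpa using (cy' 0).1 q.symm
    obtain ⟨b, hb, fb', pab⟩ := exists_sign M₄ hb₀ (M₄.pol_ne ha hb₀ (by rw [fa, fb₀]; exact n0y)) 1 one_ne
    have fb : F₄ b = y0 := fb'.trans fb₀
    obtain ⟨b', hb', fb'', pab'⟩ := exists_sign M₄ hb₁ (M₄.pol_ne ha hb₁ (by rw [fa, fb₁]; exact n0y')) 1 one_ne
    have fbb : F₄ b' = y0' := fb''.trans fb₁
    have z0 : ∀ {s t : V6} {S' T' : G}, f6 s = 1 → f6 t = 1 → F₄ s = S' → F₄ t = T' → Commute S' T' → S' ≠ T' →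
        polar (⇑f6) s t = 0 := fun hs ht es et hc hne => M₄.pol_eq hs ht (by rwa [es, et]) (by rwa [es, et])
    have vu := z0 hv hu fv fu (c7 2).symm (m _ (he 2)).2.1
    have va := z0 hv ha fv fa ((hch 2 0 (by decide)).2 (by decide)) (hed 2 0 (by decide))
    have vb := z0 hv hb fv fb ((cy 2).2 (by decide)).symm (Ne.symm (dy 2))
    have vb' := z0 hv hb' fv fbb ((cy' 2).2 (by decide)).symm (Ne.symm (dy' 2))
    have ua := z0 hu ha fu fa (c7 0) (Ne.symm (m _ (he 0)).2.1)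
    have ub := z0 hu hb fu fb (m _ hr).2.2.symm (Ne.symm (m _ hr).2.1)
    have ub' := z0 hu hb' fu fbb (m _ hr').2.2.symm (Ne.symm (m _ hr').2.1)
    have hab : a + b ≠ 0 := fun e => n0y (by rw [← fa, ← fb, eq_neg_of_add_eq_zero_right e, M₄.neg a ha])
    obtain ⟨α, l, hgl⟩ := span_root hv hu ha hb hg vu va vb ua ub pab
      (z0 hv hg fv fg c62.symm (n6 2)) (z0 ha hg fa fg hg0c (n6 0)) (z0 hb hg fb fg c6y d6y)
      (M₄.pol_ne hu hg (by rw [fu, fg]; exact fun q => n67 q.symm)) hab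
    have hl : l ≠ 0 := fun e => by
      rw [e, zero_smul, add_zero] at hgl
      rcases (by decide : ∀ a : ZMod 3, a = 0 ∨ a = 1 ∨ a = -1) α with rfl | rfl | rfl
      · rw [hgl, zero_smul, QuadraticMap.map_zero] at hg; exact nz hg.symm
      · exact n67 (by rw [← fg, ← fu, hgl, one_smul])
      · exact n67 (by rw [← fg, ← fu, hgl, neg_one_smul, M₄.neg u hu])
    have hbb : polar (⇑f6) b b' = 2 := by
      have h0 := z0 hb' hg fbb fg c6y' d6y'
      rw [hgl, polar_add_right, polar_smul_right, polar_smul_right, polar_add_right, polar_comm (⇑f6) b' u, ub',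
        polar_comm (⇑f6) b' a, pab', polar_comm (⇑f6) b' b, smul_zero, zero_add, smul_eq_mul] at h0
      exact (by decide : ∀ l q : ZMod 3, l ≠ 0 → l * (1 + q) = 0 → q = 2) l _ hl h0
    obtain ⟨k, hk⟩ := sing (v := v) (u := u) (p := a) (q := b) (t := a + b') hv hu ha hb vu va vb ua ub pab
      (by rw [polar_add_right, va, vb', add_zero]) (by rw [polar_add_right, ua, ub', add_zero])
      (by rw [polar_add_right, f6_self ha, pab']; decide)
      (by rw [polar_add_right, polar_comm (⇑f6) b a, pab, hbb]; decide)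
      (by rw [QuadraticMap.map_add (⇑f6), ha, hb', pab']; decide) hab
    have hk0 : k ≠ 0 := fun e => by
      rw [e, zero_smul] at hk
      refine n0y' ?_
      rw [← fa, ← fbb, eq_neg_of_add_eq_zero_right hk, M₄.neg a ha]
    have hk1 : k ≠ 1 := fun e => by
      rw [e, one_smul] at hk
      refine cyy ?_
      rw [← fb, ← fbb, add_left_cancel hk]
    have ya : polar (⇑f6) y a ≠ 0 := M₄.pol_ne hy ha (by
      rw [fy, fa]; exact fun q => (hch 1 0 (by decide)).1 q (by decide))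
    have yb : polar (⇑f6) y b ≠ 0 := M₄.pol_ne hy hb (by
      rw [fy, fb]; exact fun q => by simpa using (cy 1).1 q.symm)
    have yb' : polar (⇑f6) y b' ≠ 0 := M₄.pol_ne hy hb' (by
      rw [fy, fbb]; exact fun q => by simpa using (cy' 1).1 q.symm)
    have h1 : polar (⇑f6) y a + polar (⇑f6) y b' = k * (polar (⇑f6) y a + polar (⇑f6) y b) := by
      rw [← polar_add_right, hk, polar_smul_right, polar_add_right, smul_eq_mul]
    have hyr : polar (⇑f6) y (a + b) = 0 := by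
      rw [polar_add_right]
      exact sum_zero _ _ _ k ⟨ya, yb, yb', hk0, hk1, h1⟩
    rw [← fy, ← fg]
    refine M₄.comm_of_zero hy hg ?_
    rw [hgl]
    exact pol_comb α l (z0 hy hu fy fu (c7 1).symm (m _ (he 1)).2.1) hyr
  -- the further member is adjacent to the second
  set ch : Fin 6 → G := ![w0, w1, w2, w3, w6, w7]
  have chc : ∀ i j, i ≠ j → (Commute (ch i) (ch j) ↔ ¬ Adj6 i j) := by
    have t : ∀ {a b : G} {P : Prop}, Commute a b → P → (Commute a b ↔ P) := fun h1 h2 => iff_of_true h1 h2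
    have f : ∀ {a b : G} {P : Prop}, ¬ Commute a b → ¬ P → (Commute a b ↔ P) := fun h1 h2 => iff_of_false h1 h2
    intro i j hij
    fin_cases i <;> fin_cases j <;>
      first
        | exact absurd rfl hij
        | exact hch _ _ (by decide)
        | exact t hg0c (by decide)
        | exact t hg0c.symm (by decide)
        | exact t c61 (by decide)
        | exact t c61.symm (by decide)
        | exact t c62 (by decide)
        | exact t c62.symm (by decide)
        | exact f n63 (by decide)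
        | exact f (fun q => n63 q.symm) (by decide)
        | exact f n67 (by decide)
        | exact f (fun q => n67 q.symm) (by decide)
        | exact t (c7 _) (by decide)
        | exact t (c7 _).symm (by decide)
  have np1 : ¬ Commute p w1 := by
    obtain ⟨F₅, M₅, hF₅⟩ := exists_frame S hx hdx (hT 5) ch
      (by
        intro i
        fin_cases i
        exacts [hT 0, hT 1, hT 2, hT 3, hgT, hw7])
      (by
        intro i
        fin_cases i
        exacts [nee 0 5 (by decide) (by decide), nee 1 5 (by decide) (by decide), nee 2 5 (by decide) (by decide),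
          nee 3 5 (by decide) (by decide), nbm hg0D (Ne.symm (n6 5)) c65, n7 5]) chc
    obtain ⟨π, hπ, fπ⟩ := M₅.surj p hpT
      (nbm hp0D (sep ((hch 5 2 (by decide)).2 (by decide)) np2).symm cp5)
    have z0 : ∀ i, Commute p (ch i) → p ≠ ch i → polar (chainVal 1) π (e6 i) = 0 := fun i hc hne => by
      rw [← f6_polar]
      exact M₅.pol_eq hπ (he i) (by rw [fπ]; exact (hF₅ i).symm ▸ hc) (by rw [fπ]; exact (hF₅ i).symm ▸ hne)
    obtain ⟨h1, h2, h3⟩ := forced_adj π ((f6_apply π).symm.trans hπ)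
      (z0 0 hp0c.symm hp0ne) (z0 3 cp3 (sep cp6 fun q => n63 q.symm))
      (z0 4 cp6 (sep c62 np2).symm) (z0 5 cp7 (sep (c7 2) np2).symm)
      (by
        rw [← f6_polar]
        exact M₅.pol_ne hπ (he 2) (by rw [fπ]; exact (hF₅ 2).symm ▸ np2))
    have := M₅.not_comm hπ (he 1) (by rw [f6_polar]; exact h1) h2 h3
    rw [fπ] at this
    rw [show F₅ (e6 1) = w1 from hF₅ 1] at this
    exact this
  refine ⟨![w0, w1, w2, w3, w4, w5, w6, w7], p, ?_, hpT, ?_, ?_⟩
  · intro i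
    fin_cases i
    exacts [hT 0, hT 1, hT 2, hT 3, hT 4, hT 5, hgT, hw7]
  · have t : ∀ {a b : G} {P : Prop}, Commute a b → P → (Commute a b ↔ P) := fun h1 h2 => iff_of_true h1 h2
    have f : ∀ {a b : G} {P : Prop}, ¬ Commute a b → ¬ P → (Commute a b ↔ P) := fun h1 h2 => iff_of_false h1 h2
    intro i j hij
    fin_cases i <;> fin_cases j <;>
      first
        | exact absurd rfl hij
        | exact (hch _ _ (by decide)).trans (by decide)
        | exact t hg0c (by decide)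
        | exact t hg0c.symm (by decide)
        | exact t c61 (by decide)
        | exact t c61.symm (by decide)
        | exact t c62 (by decide)
        | exact t c62.symm (by decide)
        | exact t c64 (by decide)
        | exact t c64.symm (by decide)
        | exact t c65 (by decide)
        | exact t c65.symm (by decide)
        | exact f n63 (by decide)
        | exact f (fun q => n63 q.symm) (by decide)
        | exact f n67 (by decide)
        | exact f (fun q => n67 q.symm) (by decide)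
        | exact t (c7 _) (by decide)
        | exact t (c7 _).symm (by decide)
  · intro i
    fin_cases i
    exacts [iff_of_true hp0c.symm (by decide), iff_of_false np1 (by decide), iff_of_false np2 (by decide),
      iff_of_true cp3 (by decide), iff_of_true cp4 (by decide), iff_of_true cp5 (by decide),
      iff_of_true cp6 (by decide), iff_of_true cp7 (by decide)]

end Setup

end CfsgLib.TC23
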