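import Cfsg.Agent.TC23.Graph
import Cfsg.Agent.Spor3T.TriRefl

/-!
The common neighbours of a far pair that commute with one of them are the roots of a six-dimensional space over
the field with three elements.
-/

set_option autoImplicit false
set_option linter.unusedSectionVars false
set_option linter.style.haveILetI false

namespace CfsgLib.TC23

open CfsgLib.ThreeT CfsgLib.ThreeT.Prod CfsgLib.DoubleM22
open QuadraticMap

universe u

/-- The space. -/
abbrev V6 : Type := Fin 6 → ZMod 3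

/-- The form of the chain of six. -/
noncomputable abbrev f6 : QuadraticForm (ZMod 3) V6 := chainForm 1

theorem f6_apply (v : V6) : f6 v = chainVal 1 v := congrFun (chainForm_coe 1) v

theorem f6_polar (u v : V6) : polar (⇑f6) u v = polar (chainVal 1) u v := by rw [chainForm_coe]

theorem root_ne_neg : ∀ v : V6, chainVal 1 v = 1 → v ≠ -v := by
  unfold chainVal
  decide +kernel

theorem one_ne : (1 : ZMod 3) ≠ 0 := by decide

theorem f6_self {v : V6} (hv : f6 v = 1) : polar (⇑f6) v v = 2 := by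
  rw [QuadraticMap.polar_self, hv]; rfl

/-- The roots give the common neighbours at `a`. -/
structure IsModel {G : Type*} [Group G] (d x a : G) (F : V6 → G) : Prop where
  mem : ∀ v, f6 v = 1 → F v ∈ tri (conjugatesOf d) d x ∧ F v ∈ nb (conjugatesOf d) a
  surj : ∀ y ∈ tri (conjugatesOf d) d x, y ∈ nb (conjugatesOf d) a → ∃ v, f6 v = 1 ∧ F v = y
  neg : ∀ v, f6 v = 1 → F (-v) = F v
  inj : ∀ u v, f6 u = 1 → f6 v = 1 → F u = F v → u = v ∨ u = -v
  comm : ∀ u v, f6 u = 1 → f6 v = 1 → (Commute (F u) (F v) ↔ u = v ∨ u = -v ∨ polar (⇑f6) u v = 0)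

namespace IsModel

variable {G : Type*} [Group G] {d x a : G} {F : V6 → G} (M : IsModel d x a F) {u v : V6} (hu : f6 u = 1)
  (hv : f6 v = 1)

include M hu hv

theorem pol_ne (h : ¬ Commute (F u) (F v)) : polar (⇑f6) u v ≠ 0 :=
  fun e => h ((M.comm u v hu hv).2 (Or.inr (Or.inr e)))

theorem pol_eq (h : Commute (F u) (F v)) (hne : F u ≠ F v) : polar (⇑f6) u v = 0 := by
  rcases (M.comm u v hu hv).1 h with rfl | rfl | e
  · exact absurd rfl hne
  · exact absurd (M.neg v hv) hne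
  · exact e

theorem comm_of_zero (e : polar (⇑f6) u v = 0) : Commute (F u) (F v) := (M.comm u v hu hv).2 (Or.inr (Or.inr e))

theorem not_comm (e : polar (⇑f6) u v ≠ 0) (h1 : u ≠ v) (h2 : u ≠ -v) : ¬ Commute (F u) (F v) := fun q => by
  rcases (M.comm u v hu hv).1 q with e' | e' | e'
  exacts [h1 e', h2 e', e e']

end IsModel

/-- A root with a chosen non-zero product. -/
theorem exists_sign {G : Type*} [Group G] {d x a : G} {F : V6 → G} (M : IsModel d x a F) {p v : V6}
    (hv : f6 v = 1) (e : polar (⇑f6) p v ≠ 0) (c : ZMod 3) (hc : c ≠ 0) :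
    ∃ v', f6 v' = 1 ∧ F v' = F v ∧ polar (⇑f6) p v' = c := by
  rcases (by decide : ∀ q c : ZMod 3, q ≠ 0 → c ≠ 0 → q = c ∨ -q = c) _ c e hc with q | q
  · exact ⟨v, hv, rfl, q⟩
  · refine ⟨-v, by rw [QuadraticMap.map_neg, hv], M.neg v hv, ?_⟩
    rw [QuadraticMap.polar_neg_right]; exact q

variable {G : Type u} [Group G] [Finite G] {d : G} {Q : Type*} [Group Q] [Finite Q] {E : Set Q}

theorem exists_model (S : Setup d E) {x a : G} (hx : x ∈ conjugatesOf d) (hdx : ¬ Commute d x)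
    (ha : a ∈ tri (conjugatesOf d) d x) : ∃ F, IsModel d x a F := by
  classical
  obtain ⟨g, hg⟩ := Setup.to_d ha.1.1
  have hgi : Function.Injective fun v : G => g * v * g⁻¹ := fun p q e => mul_left_cancel (mul_right_cancel e)
  have tr : ∀ {v : G}, v ∈ nb (conjugatesOf d) a → g * v * g⁻¹ ∈ nb (conjugatesOf d) d := fun hv =>
    ⟨Setup.conj_mem hv.1 g, fun e => hv.2.1 (hgi (e.trans hg.symm)), hg ▸ (commute_conj_iff g _ _).2 hv.2.2⟩
  have hd' := tr ⟨IsConj.refl d, Ne.symm ha.1.2.1, ha.1.2.2.symm⟩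
  have hx' := tr ⟨hx, fun e => hdx (e ▸ ha.1.2.2), ha.2⟩
  have hnc : ¬ Commute (S.im (g * d * g⁻¹)) (S.im (g * x * g⁻¹)) := fun q =>
    hdx ((commute_conj_iff g d x).1 ((S.nb_commute hd' hx').1 q))
  obtain ⟨c, q, hc, hq, hdet, F₀, hF1, hF2, hF3, hF4⟩ :=
    exists_refl_model S.P.geo S.P.prim S.P.type22 (S.nb_im hd') (S.nb_im hx') hnc
  obtain ⟨σ, hσ⟩ := chain_isometry hq hdet hc
  have hval : ∀ w, q w = c * f6 (σ w) := fun w => by
    rw [← hσ, chainForm_coe, f6_apply]; simp [chainVal]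
  have hroot : ∀ v, f6 v = 1 → q (σ.symm v) = c := fun v hv => by
    rw [hval, LinearEquiv.apply_symm_apply, hv, mul_one]
  have hpol : ∀ u v, polar (⇑q) (σ.symm u) (σ.symm v) = c * polar (⇑f6) u v := fun u v => by
    simp only [polar, hval, map_add, LinearEquiv.apply_symm_apply]; ring
  choose L hL hLi using fun (p : Q) (hp : p ∈ E) => S.nb_surj hp
  let F : V6 → G := fun v => if h : F₀ (σ.symm v) ∈ E then g⁻¹ * L _ h * g else 1
  have hFspec : ∀ v, f6 v = 1 → ∃ l ∈ nb (conjugatesOf d) d, S.im l = F₀ (σ.symm v) ∧ g * F v * g⁻¹ = l := by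
    intro v hv
    have hE : F₀ (σ.symm v) ∈ E := (hF1 _ (hroot v hv)).1.1
    refine ⟨L _ hE, hL _ hE, hLi _ hE, ?_⟩
    simp only [F, dif_pos hE]; group
  have hmem : ∀ v, f6 v = 1 → F v ∈ tri (conjugatesOf d) d x ∧ F v ∈ nb (conjugatesOf d) a := by
    intro v hv
    obtain ⟨l, hl, hli, e⟩ := hFspec v hv
    obtain ⟨⟨-, hne, hcd⟩, hcx⟩ := hF1 _ (hroot v hv)
    have hD : F v ∈ conjugatesOf d := by
      rw [show F v = g⁻¹ * l * g⁻¹⁻¹ by rw [← e]; group]
      exact Setup.conj_mem hl.1 _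
    refine ⟨⟨⟨hD, fun q' => hne ?_, (commute_conj_iff g _ _).1 ?_⟩, (commute_conj_iff g _ _).1 ?_⟩,
      hD, fun q' => hl.2.1 (by rw [← e, q', hg]), (commute_conj_iff g _ _).1 ?_⟩
    · rw [← hli, ← e, q']
    · rw [e]; exact (S.nb_commute hd' hl).1 (hli.symm ▸ hcd)
    · rw [e]; exact (S.nb_commute hl hx').1 (hli.symm ▸ hcx)
    · rw [e, hg]; exact hl.2.2
  have hnegr : ∀ v, f6 v = 1 → F (-v) = F v := by
    intro v hv
    have : F₀ (σ.symm (-v)) = F₀ (σ.symm v) := by rw [map_neg]; exact hF3 _ (hroot v hv)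
    simp only [F, this]
  have hne' : ∀ u v, f6 u = 1 → f6 v = 1 → u ≠ v → u ≠ -v →
      F₀ (σ.symm u) ≠ F₀ (σ.symm v) ∧ (Commute (F₀ (σ.symm u)) (F₀ (σ.symm v)) ↔ polar (⇑f6) u v = 0) := by
    intro u v hu hv h1 h2
    have := hF4 _ _ (hroot u hu) (hroot v hv) (fun e => h1 (σ.symm.injective e).symm)
      (fun e => h2 (by rw [σ.symm.injective (e.trans (map_neg σ.symm u).symm), neg_neg]))
    refine ⟨this.1, this.2.trans ?_⟩
    rw [hpol, mul_eq_zero, or_iff_right hc]
  refine ⟨F, ⟨hmem, fun y hy hya => ?_, hnegr, fun u v hu hv e => ?_, fun u v hu hv => ?_⟩⟩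
  · have hy' := tr hya
    have hyT : S.im (g * y * g⁻¹) ∈ tri E (S.im (g * d * g⁻¹)) (S.im (g * x * g⁻¹)) := by
      refine ⟨⟨S.nb_im hy', fun e => hy.1.2.1 (hgi (S.nb_inj hy' hd' e)), ?_⟩,
        (S.nb_commute hy' hx').2 ((commute_conj_iff g _ _).2 hy.2)⟩
      exact (S.nb_commute hd' hy').2 ((commute_conj_iff g _ _).2 hy.1.2.2)
    obtain ⟨w, hw, ew⟩ := hF2 _ hyT
    have hv : f6 (σ w) = 1 := by
      have := hval w
      rw [hw] at this
      exact (mul_eq_left₀ hc).1 this.symm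
    refine ⟨σ w, hv, hgi ?_⟩
    obtain ⟨l, hl, hli, e⟩ := hFspec _ hv
    show g * F (σ w) * g⁻¹ = g * y * g⁻¹
    rw [e]
    exact S.nb_inj hl hy' (by rw [hli, LinearEquiv.symm_apply_apply, ew])
  · by_cases h1 : u = v
    · exact Or.inl h1
    refine Or.inr (by_contra fun h2 => (hne' u v hu hv h1 h2).1 ?_)
    obtain ⟨l, hl, hli, el⟩ := hFspec u hu
    obtain ⟨m, hm, hmi, em⟩ := hFspec v hv
    rw [← hli, ← hmi, ← el, ← em, e]
  · by_cases h1 : u = v
    · subst h1; simp
    by_cases h2 : u = -v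
    · subst h2; simp [hnegr v hv]
    obtain ⟨l, hl, hli, el⟩ := hFspec u hu
    obtain ⟨m, hm, hmi, em⟩ := hFspec v hv
    rw [or_iff_right h1, or_iff_right h2, ← (hne' u v hu hv h1 h2).2, ← hli, ← hmi, S.nb_commute hl hm, ← el, ← em,
      commute_conj_iff]

/-- Six members in a chain may be taken as the basis. -/
theorem exists_frame (S : Setup d E) {x a : G} (hx : x ∈ conjugatesOf d) (hdx : ¬ Commute d x)
    (ha : a ∈ tri (conjugatesOf d) d x) (y : Fin 6 → G) (hy : ∀ i, y i ∈ tri (conjugatesOf d) d x)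
    (hya : ∀ i, y i ∈ nb (conjugatesOf d) a) (hc : ∀ i j, i ≠ j → (Commute (y i) (y j) ↔ ¬ Adj6 i j)) :
    ∃ F, IsModel d x a F ∧ ∀ i, F (Pi.single i 1) = y i := by
  obtain ⟨F, M⟩ := exists_model S hx hdx ha
  choose v hv hFv using fun i => M.surj (y i) (hy i) (hya i)
  have hne : ∀ i j, i ≠ j → y i ≠ y j := by
    intro i j hij e
    rcases (by decide : ∀ i j : Fin 6, i ≠ j → Adj6 i j ∨ ∃ k, k ≠ i ∧ k ≠ j ∧
      ((Adj6 i k ∧ ¬ Adj6 j k) ∨ (Adj6 j k ∧ ¬ Adj6 i k))) i j hij with h | ⟨k, hki, hkj, ⟨h1, h2⟩ | ⟨h1, h2⟩⟩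
    · exact (hc i j hij).1 (e ▸ Commute.refl (y i)) h
    · exact (hc i k hki.symm).1 (e ▸ (hc j k hkj.symm).2 h2) h1
    · exact (hc j k hkj.symm).1 (e ▸ (hc i k hki.symm).2 h2) h1
  have hp : ∀ i j : Fin 6, i ≠ j → (polar (⇑f6) (v i) (v j) = 0 ↔ ¬ Adj6 i j) := by
    intro i j hij
    rw [← hc i j hij, ← hFv i, ← hFv j]
    exact ⟨M.comm_of_zero (hv i) (hv j), fun q => M.pol_eq (hv i) (hv j) q (by rw [hFv, hFv]; exact hne i j hij)⟩
  obtain ⟨g, hg, he⟩ := chain_frame one_ne v hv hp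
  have hgs : ∀ w, f6 (g.symm w) = f6 w := fun w => by
    conv_rhs => rw [← g.apply_symm_apply w, hg]
  refine ⟨fun w => F (g w), ⟨fun w hw => M.mem _ (by rw [hg, hw]), fun z hz hza => ?_, fun w hw => ?_,
    fun p q hp' hq' e => ?_, fun p q hp' hq' => ?_⟩, fun i => ?_⟩
  · obtain ⟨w, hw, e⟩ := M.surj z hz hza
    exact ⟨g.symm w, by rw [hgs, hw], by simp [e]⟩
  · show F (g (-w)) = F (g w)
    rw [map_neg]; exact M.neg _ (by rw [hg, hw])
  · rcases M.inj _ _ (by rw [hg, hp']) (by rw [hg, hq']) e with q' | q'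
    · exact Or.inl (g.injective q')
    · exact Or.inr (g.injective (q'.trans (map_neg g q).symm))
  · show Commute (F (g p)) (F (g q)) ↔ _
    rw [M.comm _ _ (by rw [hg, hp']) (by rw [hg, hq']), ← map_neg g q, g.injective.eq_iff, g.injective.eq_iff]
    simp only [polar, ← map_add g, hg]
  · show F (g (Pi.single i 1)) = y i
    rcases he i with e | e <;> rw [e]
    · exact hFv i
    · rw [M.neg _ (hv i)]; exact hFv i

theorem f6_nondeg : (polarBilin f6).Nondegenerate := chain_nondeg one_ne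

/-- The singular vectors orthogonal to two orthogonal roots and to a pair spanning a singular line with them. -/
theorem sing {v u p q t : V6} (hv : f6 v = 1) (hu : f6 u = 1) (hp : f6 p = 1) (hq : f6 q = 1)
    (hvu : polar (⇑f6) v u = 0) (hvp : polar (⇑f6) v p = 0) (hvq : polar (⇑f6) v q = 0)
    (hup : polar (⇑f6) u p = 0) (huq : polar (⇑f6) u q = 0) (hpq : polar (⇑f6) p q = 1)
    (htv : polar (⇑f6) v t = 0) (htu : polar (⇑f6) u t = 0) (htp : polar (⇑f6) p t = 0)
    (htq : polar (⇑f6) q t = 0) (ht : f6 t = 0) (hne : p + q ≠ 0) : ∃ l : ZMod 3, t = l • (p + q) := by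
  have htwo : ∀ a : ZMod 3, a * 2 = 0 → a = 0 := by decide
  haveI : Fact (Nat.Prime 3) := ⟨Nat.prime_three⟩
  by_contra hno
  simp only [not_exists] at hno
  set B := polarBilin f6
  have b : ∀ x y, B x y = polar (⇑f6) x y := fun x y => rfl
  set r := p + q with hr
  have hself : ∀ {z : V6}, f6 z = 1 → B z z = 2 := fun h => f6_self h
  have hqp : polar (⇑f6) q p = 1 := by rw [polar_comm]; exact hpq
  have hpr : B p r = 0 := by
    rw [hr, map_add, hself hp, b, hpq]; rfl
  have hqr : B q r = 0 := by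
    rw [hr, map_add, hself hq, b, hqp]; rfl
  have hrr : B r r = 0 := by
    rw [hr, map_add B, LinearMap.add_apply, ← hr, hpr, hqr, add_zero]
  have hvr : B v r = 0 := by rw [hr, map_add, b, b, hvp, hvq, add_zero]
  have hur : B u r = 0 := by rw [hr, map_add, b, b, hup, huq, add_zero]
  have hrt : B r t = 0 := by
    rw [hr, map_add B, LinearMap.add_apply, b, b, htp, htq, add_zero]
  have htt : B t t = 0 := by rw [b, QuadraticMap.polar_self, ht, smul_zero]
  have hsymm : ∀ x y, B x y = B y x := fun x y => by rw [b, b, polar_comm]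
  have hpr0 : r ≠ 0 := hne
  set vs : Fin 5 → V6 := ![v, u, p, r, t]
  have hli : LinearIndependent (ZMod 3) vs := by
    rw [Fintype.linearIndependent_iff]
    intro w hw
    simp only [vs, Fin.sum_univ_five, Matrix.cons_val] at hw
    have e0 := congrArg (fun z => B v z) hw
    have e1 := congrArg (fun z => B u z) hw
    have e2 := congrArg (fun z => B p z) hw
    simp only [map_add, map_smul, map_zero, smul_eq_mul, hself hv, hself hu, hself hp, hvr, hur, hpr] at e0 e1 e2
    rw [b, b, b, hvu, hvp, htv] at e0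
    rw [b, b, b, polar_comm (⇑f6) u v, hvu, hup, htu] at e1
    rw [b, b, b, polar_comm (⇑f6) p v, hvp, polar_comm (⇑f6) p u, hup, htp] at e2
    simp only [mul_zero, add_zero, zero_add] at e0 e1 e2
    have w0 := htwo _ e0
    have w1 := htwo _ e1
    have w2 := htwo _ e2
    rw [w0, w1, w2] at hw
    simp only [zero_smul, zero_add] at hw
    have w4 : w 4 = 0 := by
      by_contra h4
      refine hno (-(w 4)⁻¹ * w 3) ?_
      rw [← smul_smul, neg_smul, ← smul_neg, eq_inv_smul_iff₀ h4, eq_neg_iff_add_eq_zero, add_comm]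
      exact hw
    rw [w4, zero_smul, add_zero, smul_eq_zero, or_iff_left hpr0] at hw
    intro i
    fin_cases i <;> assumption
  set W := Submodule.span (ZMod 3) (Set.range vs)
  have hW : Module.finrank (ZMod 3) W = 5 := by rw [finrank_span_eq_card hli]; rfl
  have hrefl : B.IsRefl := LinearMap.BilinForm.IsSymm.isRefl ⟨hsymm⟩
  have horth : ∀ z : V6, (∀ i, B (vs i) z = 0) → z ∈ LinearMap.BilinForm.orthogonal B W := fun z hz => by
    rw [LinearMap.BilinForm.mem_orthogonal_iff]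
    intro n hn
    induction hn using Submodule.span_induction with
    | mem w hw => obtain ⟨i, rfl⟩ := hw; exact hz i
    | zero => simp [LinearMap.BilinForm.IsOrtho]
    | add p q _ _ h1 h2 =>
      show B (p + q) z = 0
      rw [map_add, LinearMap.add_apply, (show B p z = 0 from h1), (show B q z = 0 from h2), add_zero]
    | smul k p _ h1 =>
      show B (k • p) z = 0
      rw [map_smul, LinearMap.smul_apply, (show B p z = 0 from h1), smul_zero]
  have hr' : r ∈ LinearMap.BilinForm.orthogonal B W := horth r fun i => by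
    fin_cases i <;> simp [vs]
    exacts [hvr, hur, hpr, hrr, (hsymm t r).trans hrt]
  have ht' : t ∈ LinearMap.BilinForm.orthogonal B W := horth t fun i => by
    fin_cases i <;> simp [vs]
    exacts [htv, htu, htp, hrt, htt]
  have h2 : 2 ≤ Module.finrank (ZMod 3) (LinearMap.BilinForm.orthogonal B W) := by
    have hli2 : LinearIndependent (ZMod 3) (![(⟨r, hr'⟩ : ↥(LinearMap.BilinForm.orthogonal B W)), ⟨t, ht'⟩]) := by
      rw [LinearIndependent.pair_iff' (fun e => hpr0 (congrArg Subtype.val e))]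
      exact fun k e => hno k (congrArg Subtype.val e).symm
    simpa using hli2.fintype_card_le_finrank
  have h6 := LinearMap.BilinForm.finrank_orthogonal f6_nondeg W
  rw [hW, Module.finrank_fin_fun] at h6
  exact absurd (h2.trans h6.le) (by norm_num)

/-- A root orthogonal to a root and such a pair, but not to a second root. -/
theorem span_root {v u p q z : V6} (hv : f6 v = 1) (hu : f6 u = 1) (hp : f6 p = 1) (hq : f6 q = 1) (hz : f6 z = 1)
    (hvu : polar (⇑f6) v u = 0) (hvp : polar (⇑f6) v p = 0) (hvq : polar (⇑f6) v q = 0)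
    (hup : polar (⇑f6) u p = 0) (huq : polar (⇑f6) u q = 0) (hpq : polar (⇑f6) p q = 1)
    (hzv : polar (⇑f6) v z = 0) (hzp : polar (⇑f6) p z = 0) (hzq : polar (⇑f6) q z = 0)
    (hzu : polar (⇑f6) u z ≠ 0) (hne : p + q ≠ 0) : ∃ a l : ZMod 3, z = a • u + l • (p + q) := by
  set c := polar (⇑f6) u z with hc
  refine ⟨2 * c, ?_⟩
  have h1 : polar (⇑f6) v (z + c • u) = 0 := by simp [polar_add_right, polar_smul_right, hzv, hvu]
  have h2 : polar (⇑f6) u (z + c • u) = 0 := by
    rw [polar_add_right, polar_smul_right, f6_self hu, ← hc, smul_eq_mul]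
    exact (by decide : ∀ c : ZMod 3, c + c * 2 = 0) c
  have h3 : polar (⇑f6) p (z + c • u) = 0 := by
    rw [polar_add_right, polar_smul_right, hzp, polar_comm (⇑f6) p u, hup, smul_zero, add_zero]
  have h4 : polar (⇑f6) q (z + c • u) = 0 := by
    rw [polar_add_right, polar_smul_right, hzq, polar_comm (⇑f6) q u, huq, smul_zero, add_zero]
  have h5 : f6 (z + c • u) = 0 := by
    rw [QuadraticMap.map_add (⇑f6), QuadraticMap.map_smul, hz, hu, polar_smul_right, polar_comm (⇑f6) z u, ← hc,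
      smul_eq_mul, smul_eq_mul]
    exact (by decide : ∀ c : ZMod 3, c ≠ 0 → 1 + c * c * 1 + c * c = 0) c hzu
  obtain ⟨l, hl⟩ := sing hv hu hp hq hvu hvp hvq hup huq hpq h1 h2 h3 h4 h5 hne
  refine ⟨l, ?_⟩
  rw [← hl, show (2 : ZMod 3) * c = -c from (by decide : ∀ c : ZMod 3, 2 * c = -c) c, neg_smul]
  abel

end CfsgLib.TC23
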