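import Cfsg.Agent.TC23.Clique
import Cfsg.Agent.ZStar.Final
import Cfsg.Agent.Signalizer.Basic

/-!
The centraliser of a product of two commuting conjugates permutes them.
-/

set_option autoImplicit false
set_option linter.unusedSectionVars false
set_option linter.style.haveILetI false

namespace CfsgLib.TC23

open CfsgLib.ThreeT CfsgLib.ThreeT.Prod CfsgLib.DoubleM22

universe u

/-- Two involutions with a product of 2-power order generate a 2-group. -/
theorem isPGroup_pair {G : Type*} [Group G] {x y : G} (hx : x * x = 1) (hy : y * y = 1) {k : ℕ}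
    (hk : (x * y) ^ 2 ^ k = 1) :
    ∃ H : Subgroup G, IsPGroup 2 H ∧ x ∈ H ∧ y ∈ H := by
  set r := x * y with hr
  have hinv : x * r * x⁻¹ = r⁻¹ := by
    rw [inv_eq_of_mul_eq_one_right hx, hr, mul_inv_rev, inv_eq_of_mul_eq_one_right hx,
      inv_eq_of_mul_eq_one_right hy]
    rw [← mul_assoc x x y, hx, one_mul]
  have hP : IsPGroup 2 ↥(Subgroup.zpowers r) := fun g => by
    obtain ⟨i, hi⟩ := Subgroup.mem_zpowers_iff.1 g.2
    refine ⟨k, Subtype.ext ?_⟩
    rw [SubgroupClass.coe_pow, ← hi, ← zpow_natCast, ← zpow_mul, mul_comm, zpow_mul, zpow_natCast, hk, one_zpow]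
    rfl
  have hQ : IsPGroup 2 ↥(Subgroup.zpowers x) := isPGroup_of_sq fun g hg => by
    obtain ⟨i, rfl⟩ := Subgroup.mem_zpowers_iff.1 hg
    rw [← (Commute.refl x).mul_zpow, hx, one_zpow]
  have hn : Subgroup.zpowers x ≤ Subgroup.normalizer (Subgroup.zpowers r : Set G) := by
    refine Subgroup.zpowers_le.2 (Subgroup.mem_normalizer_iff.2 fun g => ⟨fun hg => ?_, fun hg => ?_⟩)
    · obtain ⟨i, rfl⟩ := Subgroup.mem_zpowers_iff.1 hg
      rw [← conj_zpow, hinv]
      exact zpow_mem (inv_mem (Subgroup.mem_zpowers r)) i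
    · obtain ⟨i, hi⟩ := Subgroup.mem_zpowers_iff.1 hg
      have hxi := inv_eq_of_mul_eq_one_right hx
      have : g = x * r ^ i * x⁻¹ := by
        rw [hi, hxi]
        calc g = (x * x) * g * (x * x) := by rw [hx, one_mul, mul_one]
          _ = _ := by group
      rw [this, ← conj_zpow, hinv]
      exact zpow_mem (inv_mem (Subgroup.mem_zpowers r)) i
  refine ⟨_, hP.to_sup_of_normal_left' hQ hn, Subgroup.mem_sup_right (Subgroup.mem_zpowers x), ?_⟩
  have : y = x * r := by rw [hr, ← mul_assoc, hx, one_mul]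
  rw [this]
  exact mul_mem (Subgroup.mem_sup_right (Subgroup.mem_zpowers x)) (Subgroup.mem_sup_left (Subgroup.mem_zpowers r))

variable {G : Type u} [Group G] [Finite G] {d : G} {Q : Type*} [Group Q] [Finite Q] {E : Set Q}

namespace Setup

variable (S : Setup d E)

include S

theorem comm_of_pow {x y : G} (hx : x ∈ conjugatesOf d) (hy : y ∈ conjugatesOf d) {k : ℕ}
    (hk : (x * y) ^ 2 ^ k = 1) : Commute x y := by
  obtain ⟨H, hH, hxH, hyH⟩ := isPGroup_pair (S.sq_of_mem hx) (S.sq_of_mem hy) hk
  exact S.two_comm hH hx hy hxH hyH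

omit S in
theorem to_d {w : G} (hw : w ∈ conjugatesOf d) : ∃ g : G, g * w * g⁻¹ = d := by
  obtain ⟨g, rfl⟩ := isConj_iff.1 hw
  exact ⟨g⁻¹, by group⟩

/-- A member commuting with a third and with a product of two commutes with both. -/
theorem split_pair {r w p q : G} (hr : r ∈ conjugatesOf d) (hw : w ∈ conjugatesOf d) (hp : p ∈ conjugatesOf d)
    (hq : q ∈ conjugatesOf d) (hrw : Commute r w) (hwp : Commute w p) (hwq : Commute w q) (hpq : Commute p q)
    (hpw : p ≠ w) (hqw : q ≠ w) (hne : p ≠ q) (h : Commute r (p * q)) : Commute r p ∧ Commute r q := by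
  by_cases hrw' : r = w
  · subst hrw'; exact ⟨hwp, hwq⟩
  obtain ⟨g, hg⟩ := to_d hw
  have tr : ∀ {x : G}, x ∈ conjugatesOf d → Commute w x → x ≠ w → g * x * g⁻¹ ∈ nb (conjugatesOf d) d :=
    fun hx hc hne' => ⟨conj_mem hx g, fun e => hne' (mul_left_cancel (mul_right_cancel (e.trans hg.symm))),
      hg ▸ (commute_conj_iff g _ _).2 hc⟩
  have hr' := tr hr hrw.symm hrw'
  have hp' := tr hp hwp hpw
  have hq' := tr hq hwq hqw
  rw [← commute_conj_iff g r p, ← commute_conj_iff g r q, ← S.nb_commute hr' hp', ← S.nb_commute hr' hq']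
  have hne'' : S.im (g * p * g⁻¹) ≠ S.im (g * q * g⁻¹) := fun e =>
    hne (mul_left_cancel (mul_right_cancel (S.nb_inj hp' hq' e)))
  have hpq' : Commute (S.im (g * p * g⁻¹)) (S.im (g * q * g⁻¹)) :=
    (S.nb_commute hp' hq').2 ((commute_conj_iff g p q).2 hpq)
  have h2 : Commute (S.im (g * p * g⁻¹) * S.im (g * q * g⁻¹)) (S.im (g * r * g⁻¹)) := by
    rw [← S.im_mul (S.nb_comm_d hp') (S.nb_comm_d hq'), conj_mul]
    have hc := (commute_conj_iff g (p * q) r).2 h.symm
    have hcd : Commute (g * (p * q) * g⁻¹) d := hg ▸ (commute_conj_iff g _ _).2 (hwp.mul_right hwq).symm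
    show _ * _ = _ * _
    rw [← S.im_mul hcd (S.nb_comm_d hr'), ← S.im_mul (S.nb_comm_d hr') hcd, hc.eq]
  obtain ⟨h3, h4⟩ := (commute_mul_iff0 S.P.geo.tt (S.nb_im hp') (S.nb_im hq') (S.nb_im hr') hpq' hne'').1 h2
  exact ⟨h3.symm, h4.symm⟩

/-- A subgroup of small index in the 23-generated group contains a member, modulo the product of two. -/
theorem exists_member {B : Subgroup ↥S.A} (hB : B.index ≤ 2) :
    ∃ w, ∃ hw : w ∈ S.Om, (⟨w, hw.1⟩ : ↥S.A) ∈ B := by
  classical
  haveI := Fintype.ofFinite G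
  rcases (show B.index = 1 ∨ B.index = 2 by have := Subgroup.index_ne_zero_of_finite (H := B); omega) with h1 | h2
  · exact ⟨d, S.d_mem_Om, by rw [Subgroup.index_eq_one.1 h1]; exact Subgroup.mem_top _⟩
  by_contra hno
  simp only [not_exists] at hno
  set O := S.Om.toFinset with hO
  have hO23 : O.card = 23 := by rw [← S.ncard_Om, Set.ncard_eq_toFinset_card']
  set F := (O.powersetCard 0 ∪ O.powersetCard 2).image pr
  have hFc : F.card ≤ 254 := Finset.card_image_le.trans ((Finset.card_union_le _ _).trans (by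
    simp only [Finset.card_powersetCard, hO23]; decide))
  have hsub : (B.map S.A.subtype : Subgroup G).carrier.toFinset ⊆ F := by
    intro x hx
    obtain ⟨v, hv, rfl⟩ := Set.mem_toFinset.1 hx
    obtain ⟨s, hs, hs3, e⟩ := S.exists_short v.2
    have hsO : s ⊆ O := fun y hy => Set.mem_toFinset.2 (hs y hy)
    have hodd : ∀ t : Finset G, t ⊆ s → ∀ (ht : pr t ∈ S.A), ((⟨pr t, ht⟩ : ↥S.A) ∈ B ↔ Even t.card) := by
      intro t
      induction t using Finset.induction_on with
      | empty =>
        intro _ ht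
        simpa using (show (⟨pr (∅ : Finset G), ht⟩ : ↥S.A) = 1 from Subtype.ext pr_empty) ▸ one_mem B
      | insert a t ha ih =>
        intro hts ht
        have haO := hs a (hts (Finset.mem_insert_self a t))
        have htm : pr t ∈ S.A := S.pr_mem_A fun y hy => hs y (hts (Finset.mem_insert_of_mem hy))
        have he : (⟨pr (insert a t), ht⟩ : ↥S.A) = ⟨a, haO.1⟩ * ⟨pr t, htm⟩ := Subtype.ext (pr_insert ha
          fun u hu v hv => S.om_comm (hs u (hts hu)) (hs v (hts hv)))
        rw [he, Subgroup.mul_mem_iff_of_index_two h2, ih (fun y hy => hts (Finset.mem_insert_of_mem hy)) htm,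
          Finset.card_insert_of_notMem ha, Nat.even_add_one]
        simp [hno a haO]
    have hev : Even s.card := (hodd s subset_rfl (S.pr_mem_A hs)).1 (by
      rw [show (⟨pr s, S.pr_mem_A hs⟩ : ↥S.A) = v from Subtype.ext e]; exact hv)
    refine Finset.mem_image.2 ⟨s, ?_, e⟩
    obtain ⟨j, hj⟩ := hev
    rw [Finset.mem_union, Finset.mem_powersetCard, Finset.mem_powersetCard]
    rcases (show s.card = 0 ∨ s.card = 2 by omega) with q | q
    exacts [Or.inl ⟨hsO, q⟩, Or.inr ⟨hsO, q⟩]
  have hBc : Nat.card ↥(B.map S.A.subtype) ≤ 254 := by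
    refine le_trans (le_of_eq ?_) ((Finset.card_le_card hsub).trans hFc)
    rw [Set.toFinset_card, ← Nat.card_eq_fintype_card]; rfl
  rw [Subgroup.card_map_of_injective S.A.subtype_injective] at hBc
  have := B.card_mul_index
  rw [S.card_A, h2] at this
  omega

/-- Inside the 23. -/
theorem pair_Om {p q : G} (hp : p ∈ S.Om) (hq : q ∈ S.Om) (hne : p ≠ q) {g : G} (hg : Commute g (p * q)) :
    g * p * g⁻¹ = p ∨ g * p * g⁻¹ = q := by
  classical
  haveI : Fact (Nat.Prime 2) := ⟨Nat.prime_two⟩
  set z := p * q with hz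
  have hpq : Commute p q := S.om_comm hp hq
  have hpp := S.sq_of_mem hp.2
  have hqq := S.sq_of_mem hq.2
  have hzz : z * z = 1 := by rw [hz, hpq.symm.mul_mul_mul_comm, hpp, hqq, one_mul]
  have hqz : q = z * p := by rw [hz, hpq.eq, mul_assoc, hpp, mul_one]
  have hzA : z ∈ S.A := mul_mem hp.1 hq.1
  set H := Subgroup.centralizer ({z} : Set G) with hH
  have mH : ∀ {x : G}, x ∈ H ↔ Commute x z := Subgroup.mem_centralizer_singleton_iff
  let zH : ↥H := ⟨z, mH.2 (Commute.refl z)⟩
  have hcen : Subgroup.zpowers zH ≤ Subgroup.center ↥H := Subgroup.zpowers_le.2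
    (Subgroup.mem_center_iff.2 fun x => Subtype.ext (mH.1 x.2).eq)
  haveI : (Subgroup.zpowers zH).Normal :=
    ⟨fun n hn g => by rw [Subgroup.mem_center_iff.1 (hcen hn) g, mul_inv_cancel_right]; exact hn⟩
  let π := QuotientGroup.mk' (Subgroup.zpowers zH)
  have hπ : ∀ {x y : ↥H}, π x = π y → (y : G) = x ∨ (y : G) = z * x := by
    intro x y e
    obtain ⟨i, hi⟩ := Subgroup.mem_zpowers_iff.1 ((QuotientGroup.eq_iff_div_mem).1 e)
    have h2 : zH ^ (2 : ℤ) = 1 := by rw [zpow_two]; exact Subtype.ext hzz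
    have : zH ^ i = 1 ∨ zH ^ i = zH := by
      rcases Int.even_or_odd i with ⟨j, rfl⟩ | ⟨j, rfl⟩
      · left; rw [← two_mul, zpow_mul, h2, one_zpow]
      · right; rw [zpow_add, zpow_mul, h2, one_zpow, one_mul, zpow_one]
    rcases this with q' | q' <;> rw [q'] at hi
    · left; rw [div_eq_one.1 hi.symm]
    · right
      have h3 : (x : G) = z * y := by
        rw [show x = zH * y from (div_eq_iff_eq_mul.1 hi.symm)]; rfl
      rw [h3, ← mul_assoc, hzz, one_mul]
  let pH : ↥H := ⟨p, mH.2 ((Commute.refl p).mul_right hpq)⟩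
  -- isolated
  have iso0 : ∀ h : ↥H, Commute (π pH) (π (h * pH * h⁻¹)) → π (h * pH * h⁻¹) = π pH := by
    intro h hc
    set p' := (h : G) * p * (h : G)⁻¹ with hp'
    have hp'D : p' ∈ conjugatesOf d := conj_mem hp.2 h
    have hp'z : Commute p' z := mH.1 (h * pH * h⁻¹).2
    have hsq : ((p * p') ^ 2) ^ 2 = 1 := by
      have e : π ((h * pH * h⁻¹) * pH) = π (pH * (h * pH * h⁻¹)) := by rw [map_mul π _ pH, map_mul π pH _]; exact hc.eq.symm
      have hrev : (p' * p) * (p * p') = 1 := by
        rw [mul_assoc, ← mul_assoc p p p', hpp, one_mul, S.sq_of_mem hp'D]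
      rcases hπ e with q' | q' <;> simp only [Subgroup.coe_mul, Subgroup.coe_inv] at q'
      · change p * p' = p' * p at q'
        rw [pow_two (p * p'), show p * p' * (p * p') = 1 by nth_rw 1 [q']; exact hrev, one_pow]
      · change p * p' = z * (p' * p) at q'
        rw [pow_two (p * p'), show p * p' * (p * p') = z by
          nth_rw 1 [q']; rw [mul_assoc, hrev, mul_one], pow_two, hzz]
    have hcp : Commute p p' := S.comm_of_pow hp.2 hp'D (k := 2) (by rw [show (2 : ℕ) ^ 2 = 2 * 2 from rfl, pow_mul]; exact hsq)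
    set q' := (h : G) * q * (h : G)⁻¹ with hq'
    have hz' : p' * q' = z := by
      rw [hp', hq', conj_mul, ← hz, (mH.1 h.2).eq, mul_inv_cancel_right]
    have hq'z : q' = z * p' := by
      calc q' = p' * p' * q' := by rw [S.sq_of_mem hp'D, one_mul]
        _ = p' * z := by rw [mul_assoc, hz']
        _ = z * p' := hp'z.eq
    have hqp' : Commute q p' := by
      rw [hqz]; exact hp'z.symm.mul_left hcp
    have hpq' : Commute p q' := by rw [hq'z]; exact ((Commute.refl p).mul_right hpq).mul_right hcp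
    have hqq' : Commute q q' := by
      rw [hq'z]; exact (hpq.symm.mul_right (Commute.refl q)).mul_right hqp'
    have hp'q' : Commute p' q' := by rw [hq'z]; exact hp'z.mul_right (Commute.refl _)
    have hne' : p' ≠ q' := fun e => hne (mul_left_cancel (mul_right_cancel e))
    have := S.pr_unique (s := {p, q}) (t := {p', q'}) (by
        simp only [Finset.mem_union, Finset.mem_insert, Finset.mem_singleton]
        rintro x ((rfl | rfl) | (rfl | rfl))
        exacts [hp.2, hq.2, hp'D, conj_mem hq.2 h])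
      (by
        simp only [Finset.mem_union, Finset.mem_insert, Finset.mem_singleton]
        rintro x ((rfl | rfl) | (rfl | rfl)) y ((rfl | rfl) | (rfl | rfl))
        exacts [Commute.refl _, hpq, hcp, hpq', hpq.symm, Commute.refl _, hqp', hqq', hcp.symm, hqp'.symm,
          Commute.refl _, hp'q', hpq'.symm, hqq'.symm, hp'q'.symm, Commute.refl _])
      (Finset.card_le_two.trans (by norm_num)) (Finset.card_le_two.trans (by norm_num))
      (by rw [pr_pair hne hpq, pr_pair hne' hp'q', hz'])
    have hm : p' ∈ ({p, q} : Finset G) := this ▸ Finset.mem_insert_self _ _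
    simp only [Finset.mem_insert, Finset.mem_singleton] at hm
    rcases hm with e | e
    · exact congrArg π (Subtype.ext e)
    · rw [show h * pH * h⁻¹ = zH * pH from Subtype.ext (e.trans hqz), map_mul,
        show π zH = 1 from (QuotientGroup.eq_one_iff _).2 (Subgroup.mem_zpowers _), one_mul]
  have hiso : Cfsg.IsIsolatedInvolution (π pH) := by
    refine ⟨orderOf_eq_prime (by rw [← map_pow, pow_two, show pH * pH = 1 from Subtype.ext hpp, map_one]) ?_, ?_⟩
    · intro e
      rcases hπ (show π 1 = π pH by rw [map_one, e]) with q' | q'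
      · exact S.ne_one_of_mem hp.2 q'
      · change p = z * 1 at q'
        rw [mul_one, hz] at q'
        exact S.ne_one_of_mem hq.2 (mul_eq_left.1 q'.symm)
    · intro gb hc
      obtain ⟨h, rfl⟩ := QuotientGroup.mk'_surjective _ gb
      rw [← map_inv, ← map_mul, ← map_mul] at hc ⊢
      exact iso0 h hc
  obtain ⟨N, hN, hodd, hcomm⟩ := ZStar.zstar hiso
  -- the core centralises
  have hAH : ∀ {a : G}, a ∈ S.A → a ∈ H := fun ha => mH.2 (S.A_comm ha hzA)
  let φ : ↥S.A →* ↥H ⧸ Subgroup.zpowers zH := π.comp (Subgroup.inclusion fun _ => hAH)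
  have hNC : N ≤ Subgroup.centralizer ({π pH} : Set _) := by
    have hA' : Cfsg.IsElementaryAbelian 2 φ.range := by
      refine ⟨⟨⟨?_⟩⟩, ?_⟩
      · rintro ⟨_, a, rfl⟩ ⟨_, b, rfl⟩
        apply Subtype.ext
        show φ a * φ b = φ b * φ a
        rw [← map_mul, ← map_mul, show a * b = b * a from Subtype.ext (S.A_comm a.2 b.2).eq]
      · rintro _ ⟨a, rfl⟩
        rw [← map_pow, pow_two, show a * a = 1 from Subtype.ext (S.A_sq a.2), map_one]
    refine Signalizer.le_of_forall_hyperplane (p := 2) (A := φ.range) hA'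
      (by rw [Subgroup.normalizer_eq_top]; exact le_top) hodd.not_two_dvd_nat fun B hB hidx => ?_
    obtain ⟨w, hw, hwB⟩ := S.exists_member (B := B.comap φ) (by rw [Subgroup.index_comap]; exact hidx)
    intro xb hxb
    obtain ⟨x, rfl⟩ := QuotientGroup.mk'_surjective _ xb
    refine Subgroup.mem_centralizer_singleton_iff.2 ?_
    let wH : ↥H := ⟨w, hAH hw.1⟩
    have hcw : π (x * wH * x⁻¹) = π wH := by
      have := (Subgroup.mem_centralizer_iff.1 hxb.2 (π wH) hwB)
      rw [map_mul, map_mul, map_inv, ← this, mul_inv_cancel_right]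
    have hxz : Commute (x : G) z := mH.1 x.2
    suffices (x : G) * p * (x : G)⁻¹ = p ∨ (x : G) * p * (x : G)⁻¹ = q by
      have e : π (x * pH * x⁻¹) = π pH := by
        rcases this with e | e
        · exact congrArg π (Subtype.ext e)
        · rw [show x * pH * x⁻¹ = zH * pH from Subtype.ext (e.trans hqz), map_mul,
            show π zH = 1 from (QuotientGroup.eq_one_iff _).2 (Subgroup.mem_zpowers _), one_mul]
      rw [map_mul, map_mul, map_inv, mul_inv_eq_iff_eq_mul] at e
      exact e
    have key : ∀ v : G, (x : G) * v * (x : G)⁻¹ = q → v = p ∨ v = q → (x : G) * p * (x : G)⁻¹ = p ∨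
        (x : G) * p * (x : G)⁻¹ = q := by
      rintro v e (hv | hv) <;> rw [hv] at e
      · exact Or.inr e
      · left
        rw [show p = z * q by rw [hz, mul_assoc, hqq, mul_one], ← conj_mul, e, hxz.eq, mul_inv_cancel_right]
    rcases hπ hcw with e | e <;> simp only [Subgroup.coe_mul, Subgroup.coe_inv] at e
    · change w = (x : G) * w * (x : G)⁻¹ at e
      by_cases hwp : w = p
      · rw [hwp] at e; exact Or.inl e.symm
      by_cases hwq : w = q
      · exact key q (by rw [← hwq]; exact e.symm) (Or.inr rfl)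
      set r₁ := (x : G) * p * (x : G)⁻¹ with hr₁
      set r₂ := (x : G) * q * (x : G)⁻¹ with hr₂
      have h12 : r₁ * r₂ = z := by rw [hr₁, hr₂, conj_mul, ← hz, hxz.eq, mul_inv_cancel_right]
      have hw1 : Commute r₁ w := by rw [e]; exact (commute_conj_iff _ _ _).2 (S.om_comm hp hw)
      have hc12 : Commute r₁ r₂ := (commute_conj_iff _ _ _).2 hpq
      have hz1 : Commute r₁ (p * q) := by rw [← hz, ← h12]; exact (Commute.refl r₁).mul_right hc12
      obtain ⟨h1p, h1q⟩ := S.split_pair (conj_mem hp.2 x) hw.2 hp.2 hq.2 hw1 (S.om_comm hw hp) (S.om_comm hw hq)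
        hpq (Ne.symm hwp) (Ne.symm hwq) hne hz1
      have hr2 : r₂ = r₁ * z := by rw [← h12, ← mul_assoc, S.sq_of_mem (conj_mem hp.2 x), one_mul]
      have h2p : Commute r₂ p := by rw [hr2]; exact h1p.mul_left ((Commute.refl p).mul_left hpq.symm)
      have h2q : Commute r₂ q := by rw [hr2]; exact h1q.mul_left (hpq.mul_left (Commute.refl q))
      have := S.pr_unique (s := {p, q}) (t := {r₁, r₂}) (by
          simp only [Finset.mem_union, Finset.mem_insert, Finset.mem_singleton]
          rintro v ((rfl | rfl) | (rfl | rfl))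
          exacts [hp.2, hq.2, conj_mem hp.2 x, conj_mem hq.2 x])
        (by
          simp only [Finset.mem_union, Finset.mem_insert, Finset.mem_singleton]
          rintro u ((rfl | rfl) | (rfl | rfl)) v ((rfl | rfl) | (rfl | rfl))
          exacts [Commute.refl _, hpq, h1p.symm, h2p.symm, hpq.symm, Commute.refl _, h1q.symm, h2q.symm, h1p, h1q,
            Commute.refl _, hc12, h2p, h2q, hc12.symm, Commute.refl _])
        (Finset.card_le_two.trans (by norm_num)) (Finset.card_le_two.trans (by norm_num))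
        (by rw [pr_pair hne hpq, pr_pair (fun q' => hne (mul_left_cancel (mul_right_cancel q'))) hc12, h12])
      have hm : r₁ ∈ ({p, q} : Finset G) := this ▸ Finset.mem_insert_self _ _
      simpa using hm
    · change w = z * ((x : G) * w * (x : G)⁻¹) at e
      have hzw : (x : G) * w * (x : G)⁻¹ = z * w := by
        conv_rhs => rw [e, ← mul_assoc, hzz, one_mul]
      set m := (x : G) * w * (x : G)⁻¹ with hm
      have hmO : m ∈ S.Om := ⟨hzw ▸ mul_mem hzA hw.1, conj_mem hw.2 x⟩
      by_cases hwp : w = p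
      · exact key p (by rw [← hwp]; exact hzw.trans (by rw [hwp, ← hqz])) (Or.inl rfl)
      by_cases hwq : w = q
      · right
        have hxq : (x : G) * q * (x : G)⁻¹ = p := by
          rw [← hwq]; exact hzw.trans (by rw [hwq, hz, mul_assoc, hqq, mul_one])
        rw [show p = z * q by rw [hz, mul_assoc, hqq, mul_one], ← conj_mul, hxq, hxz.eq, mul_inv_cancel_right, ← hqz]
      exfalso
      have hms : ∀ v ∈ ({p, q, w} : Finset G), v ∈ S.Om := by
        simp only [Finset.mem_insert, Finset.mem_singleton]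
        rintro v (rfl | rfl | rfl) <;> assumption
      have e3 : pr ({p, q, w} : Finset G) = pr {m} := by
        rw [pr_insert (by simp [hne, Ne.symm hwp]) fun u hu v hv => S.om_comm (hms u hu) (hms v hv),
          pr_pair (Ne.symm hwq) (S.om_comm hq hw), pr_singleton, hzw, hz, mul_assoc]
      have := S.short_unique hms (by simpa using hmO) Finset.card_le_three (by simp) e3
      have h3 : ({p, q, w} : Finset G).card = 3 :=
        Finset.card_eq_three.2 ⟨p, q, w, hne, Ne.symm hwp, Ne.symm hwq, rfl⟩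
      rw [this, Finset.card_singleton] at h3
      omega
  -- conclusion
  let gH : ↥H := ⟨g, mH.2 hg⟩
  have hc := Subgroup.mem_centralizer_singleton_iff.1 (hNC (hcomm (π gH)))
  set a := π pH
  set b := π gH * π pH * (π gH)⁻¹ with hb
  have haa : a * a = 1 := by rw [← pow_two, ← hiso.1, pow_orderOf_eq_one]
  have hab : Commute a b := by
    have h1 : Commute (a * b) a := by
      rw [show a * b = a * π gH * a⁻¹ * (π gH)⁻¹ by
        rw [inv_eq_of_mul_eq_one_right haa]; show a * (π gH * a * (π gH)⁻¹) = _; group]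
      exact hc
    have e : b = a * (a * b) := by rw [← mul_assoc, haa, one_mul]
    rw [e]
    exact (Commute.refl a).mul_right h1.symm
  have hb' := hiso.2 (π gH) hab
  rw [← map_inv, ← map_mul, ← map_mul] at hb'
  rcases hπ hb'.symm with e | e
  · exact Or.inl e
  · exact Or.inr (e.trans hqz.symm)

/-- The centraliser of a product of two commuting members permutes them. -/
theorem pair {p q : G} (hp : p ∈ conjugatesOf d) (hq : q ∈ conjugatesOf d) (hpq : Commute p q) (hne : p ≠ q) {g : G}
    (hg : Commute g (p * q)) : g * p * g⁻¹ = p ∨ g * p * g⁻¹ = q := by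
  obtain ⟨c, hc⟩ := S.clique_of_comm (L := {p, q})
    (by rintro x (rfl | rfl) <;> assumption)
    (by rintro x (rfl | rfl) y (rfl | rfl); exacts [Commute.refl _, hpq, hpq.symm, Commute.refl _])
  have key := S.pair_Om (hc p (Or.inl rfl)) (hc q (Or.inr rfl))
    (fun e => hne (mul_left_cancel (mul_right_cancel e))) (g := c * g * c⁻¹) (by
      rw [conj_mul]; exact (commute_conj_iff c _ _).2 hg)
  rw [show c * g * c⁻¹ * (c * p * c⁻¹) * (c * g * c⁻¹)⁻¹ = c * (g * p * g⁻¹) * c⁻¹ by group] at key
  rcases key with e | e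
  · exact Or.inl (mul_left_cancel (mul_right_cancel e))
  · exact Or.inr (mul_left_cancel (mul_right_cancel e))

end Setup

end CfsgLib.TC23
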