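import Cfsg.Agent.DoubleM22.Orbit

/-!
An involution `d` whose centraliser is a perfect double cover of a group of type M(22), not weakly closed there:
the other conjugates of `d` in the centraliser correspond to the class of the quotient.
-/

set_option autoImplicit false
set_option linter.unusedSectionVars false
set_option linter.style.haveILetI false

namespace CfsgLib.TC23

open CfsgLib.ThreeT CfsgLib.ThreeT.Prod CfsgLib.DoubleM22
open scoped commutatorElement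

/-- The hypothesis. -/
structure Setup {G : Type*} [Group G] (d : G) {Q : Type*} [Group Q] (E : Set Q) where
  /-- The double cover. -/
  P : Cover E ↥(Subgroup.centralizer ({d} : Set G))
  hz : (P.z : G) = d
  nwc : ∃ g : G, g * d * g⁻¹ ∈ Subgroup.centralizer ({d} : Set G) ∧ g * d * g⁻¹ ≠ d

variable {G : Type*} [Group G] [Finite G] {d : G} {Q : Type*} [Group Q] [Finite Q] {E : Set Q}

namespace Setup

variable (S : Setup d E)

/-- A set of 22 commuting members of the quotient. -/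
noncomputable def cl (_S : Setup d E) : Set Q :=
  {x | x ∈ E ∧ x ∈ ((Classical.arbitrary (Sylow 2 Q) : Sylow 2 Q) : Subgroup Q)}

/-- The elementary abelian subgroup of order `2^11`. -/
noncomputable def A : Subgroup G := S.P.preG S.cl

/-- The 23 conjugates of `d` in it. -/
noncomputable def Om : Set G := {x | x ∈ S.A ∧ IsConj d x}

/-- The image in the quotient. -/
noncomputable def im (x : G) : Q :=
  open Classical in if h : x ∈ Subgroup.centralizer ({d} : Set G) then S.P.ψ ⟨x, h⟩ else 1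

include S

theorem hcl : IsClique E S.cl := IsClique.of_sylow S.P.geo _

theorem dd : d * d = 1 := by rw [← S.hz]; exact congrArg Subtype.val S.P.z_sq

theorem d_ne : d ≠ 1 := fun e => S.P.z_ne (Subtype.ext (S.hz.trans e))

omit S in
theorem mem_C {x : G} : x ∈ Subgroup.centralizer ({d} : Set G) ↔ Commute x d :=
  Subgroup.mem_centralizer_singleton_iff

theorem sq_of_mem {x : G} (hx : x ∈ conjugatesOf d) : x * x = 1 := by
  obtain ⟨g, rfl⟩ := isConj_iff.1 hx
  rw [show g * d * g⁻¹ * (g * d * g⁻¹) = g * (d * d) * g⁻¹ by group, S.dd]; group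

theorem ne_one_of_mem {x : G} (hx : x ∈ conjugatesOf d) : x ≠ 1 := by
  obtain ⟨g, rfl⟩ := isConj_iff.1 hx
  intro e
  exact S.d_ne (by simpa [mul_assoc] using congrArg (fun y => g⁻¹ * y * g) e)

theorem inv_of_mem {x : G} (hx : x ∈ conjugatesOf d) : x⁻¹ = x := inv_eq_of_mul_eq_one_right (S.sq_of_mem hx)

theorem orderOf_of_mem {x : G} (hx : x ∈ conjugatesOf d) : orderOf x = 2 :=
  orderOf_eq_prime (by rw [pow_two]; exact S.sq_of_mem hx) (S.ne_one_of_mem hx)

omit S in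
theorem conj_mem {x : G} (hx : x ∈ conjugatesOf d) (g : G) : g * x * g⁻¹ ∈ conjugatesOf d :=
  (show IsConj d x from hx).trans (isConj_iff.2 ⟨g, rfl⟩)

theorem im_coe (c : ↥(Subgroup.centralizer ({d} : Set G))) : S.im (c : G) = S.P.ψ c := by
  rw [im, dif_pos c.2]

theorem im_mul {x y : G} (hx : Commute x d) (hy : Commute y d) : S.im (x * y) = S.im x * S.im y := by
  have := S.im_coe (⟨x, mem_C.2 hx⟩ * ⟨y, mem_C.2 hy⟩)
  rw [map_mul] at this
  rw [show x * y = ((⟨x, mem_C.2 hx⟩ * ⟨y, mem_C.2 hy⟩ : ↥(Subgroup.centralizer ({d} : Set G))) : G) from rfl,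
    this, ← S.im_coe, ← S.im_coe]

theorem im_conj {g x : G} (hg : Commute g d) (hx : Commute x d) :
    S.im (g * x * g⁻¹) = S.im g * S.im x * (S.im g)⁻¹ := by
  have h1 : S.im g⁻¹ = (S.im g)⁻¹ := by
    have := S.im_coe (⟨g, mem_C.2 hg⟩⁻¹)
    rw [map_inv] at this
    rw [show g⁻¹ = ((⟨g, mem_C.2 hg⟩⁻¹ : ↥(Subgroup.centralizer ({d} : Set G))) : G) from rfl, this, ← S.im_coe]
  rw [S.im_mul (hg.mul_left hx) hg.inv_left, S.im_mul hg hx, h1]

theorem im_d : S.im d = 1 := (congrArg S.im S.hz).symm.trans ((S.im_coe S.P.z).trans S.P.phi_z)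

theorem im_one : S.im (1 : G) = 1 := by
  rw [show (1 : G) = ((1 : ↥(Subgroup.centralizer ({d} : Set G))) : G) from rfl, S.im_coe, map_one]

theorem im_eq {x y : G} (hx : Commute x d) (hy : Commute y d) (e : S.im x = S.im y) : y = x ∨ y = d * x := by
  rw [show x = ((⟨x, mem_C.2 hx⟩ : ↥(Subgroup.centralizer ({d} : Set G))) : G) from rfl,
    show y = ((⟨y, mem_C.2 hy⟩ : ↥(Subgroup.centralizer ({d} : Set G))) : G) from rfl, S.im_coe, S.im_coe] at e
  rcases S.P.same_image e with q | q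
  · exact Or.inl (congrArg Subtype.val q)
  · exact Or.inr (by have := congrArg Subtype.val q; simpa [S.hz] using this)

theorem exists_lift (q : Q) : ∃ x : G, Commute x d ∧ S.im x = q := by
  obtain ⟨c, rfl⟩ := S.P.surj q
  exact ⟨c, mem_C.1 c.2, S.im_coe c⟩

theorem mem_A {x : G} : x ∈ S.A ↔ Commute x d ∧ S.im x ∈ Subgroup.closure S.cl := by
  constructor
  · rintro ⟨c, hc, rfl⟩
    exact ⟨mem_C.1 c.2, by show S.im (c : G) ∈ _; rw [S.im_coe]; exact hc⟩
  · rintro ⟨hx, hm⟩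
    refine ⟨⟨x, mem_C.2 hx⟩, ?_, rfl⟩
    rw [show x = ((⟨x, mem_C.2 hx⟩ : ↥(Subgroup.centralizer ({d} : Set G))) : G) from rfl, S.im_coe] at hm
    exact hm

theorem A_comm {x y : G} (hx : x ∈ S.A) (hy : y ∈ S.A) : Commute x y := by
  obtain ⟨a, ha, rfl⟩ := hx
  obtain ⟨b, hb, rfl⟩ := hy
  exact congrArg Subtype.val ((S.P.pre_elementary S.hcl).1 a ha b hb)

theorem A_sq {x : G} (hx : x ∈ S.A) : x * x = 1 := by
  obtain ⟨a, ha, rfl⟩ := hx
  exact congrArg Subtype.val ((S.P.pre_elementary S.hcl).2 a ha)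

theorem d_mem_A : d ∈ S.A := S.mem_A.2 ⟨Commute.refl d, by rw [S.im_d]; exact one_mem _⟩

theorem d_mem_Om : d ∈ S.Om := ⟨S.d_mem_A, IsConj.refl d⟩

theorem ncard_Om : S.Om.ncard = 23 := S.P.ncard_conj S.hz S.hcl S.nwc

theorem card_A : Nat.card ↥S.A = 2 ^ 11 := S.P.card_preG S.hz S.hcl

theorem trans_Om {x : G} (hx : x ∈ S.Om) :
    ∃ n : G, (∀ a, a ∈ S.A ↔ n * a * n⁻¹ ∈ S.A) ∧ n * d * n⁻¹ = x := by
  obtain ⟨n, hn, e⟩ := S.P.transitive S.hz S.hcl hx.1 hx.2
  exact ⟨n, Subgroup.mem_normalizer_iff.1 hn, e⟩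

theorem exists_other : ∃ x ∈ S.Om, x ≠ d := by
  obtain ⟨g, hg, hne⟩ := S.nwc
  have hm : g * d * g⁻¹ ∈ conjugatesOf d := isConj_iff.2 ⟨g, rfl⟩
  obtain ⟨c, hc⟩ := S.P.invol_into S.hcl (x := ⟨_, hg⟩) (Subtype.ext (S.sq_of_mem hm))
  refine ⟨(c : G) * (g * d * g⁻¹) * (c : G)⁻¹, ⟨⟨_, hc, rfl⟩, conj_mem hm c⟩, fun e => hne ?_⟩
  have hcd : Commute (c : G) d := mem_C.1 c.2
  calc g * d * g⁻¹ = (c : G)⁻¹ * ((c : G) * (g * d * g⁻¹) * (c : G)⁻¹) * c := by group
    _ = (c : G)⁻¹ * (d * c) := by rw [e]; group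
    _ = d := by rw [← hcd.eq, inv_mul_cancel_left]

/-- The other 22 lie over members. -/
theorem om_lift {x : G} (hx : x ∈ S.Om) (hxd : x ≠ d) : Commute x d ∧ S.im x ∈ S.cl := by
  classical
  haveI := Fintype.ofFinite ↥S.cl
  have h := S.P.geo
  have hcd : Commute x d := S.A_comm hx.1 S.d_mem_A
  refine ⟨hcd, ?_⟩
  obtain ⟨hec, he2⟩ := S.hcl.elementary h
  have hm := (S.mem_A.1 hx.1).2
  have h1 : S.im x ≠ 1 := by
    intro e
    rcases S.im_eq (Commute.one_left d) hcd (by rw [S.im_one, e]) with q | q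
    · exact S.ne_one_of_mem hx.2 q
    · exact hxd (by rw [q, mul_one])
  obtain ⟨s, hs1, hs3, hs⟩ := exists_short_cprod S.hcl.comm h S.P.prim S.P.type22 S.hcl.sub S.hcl.card
    (he2 _ hm) h1 fun v hv => hec _ hm v (Subgroup.subset_closure hv)
  by_cases h1' : s.card = 1
  · obtain ⟨a, rfl⟩ := Finset.card_eq_one.1 h1'
    rw [← hs]
    simp [cprod]
  exfalso
  have key : ∀ t : Finset ↥S.cl, t.card = s.card → ∃ y, y ∈ S.Om ∧ S.im y = cprod S.hcl.comm t := by
    intro t ht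
    obtain ⟨g, hg⟩ := isConj_iff.1 (facs_conj h hs1 hs3 (facs_cprod S.hcl.comm S.hcl.sub s)
      (ht ▸ facs_cprod S.hcl.comm S.hcl.sub t))
    obtain ⟨e, he, rfl⟩ := S.exists_lift g
    have him : S.im (e * x * e⁻¹) = cprod S.hcl.comm t := by rw [S.im_conj he hcd, ← hs, hg]
    refine ⟨e * x * e⁻¹, ⟨S.mem_A.2 ⟨(he.mul_left hcd).mul_left he.inv_left, ?_⟩, conj_mem hx.2 e⟩, him⟩
    rw [him]; exact cprod_mem S.hcl.comm t
  have hι : (Finset.univ : Finset ↥S.cl).card = 22 := by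
    rw [Finset.card_univ, ← Nat.card_eq_fintype_card, Nat.card_coe_set_eq, S.hcl.card]
  have big : ∀ F : Finset (Finset ↥S.cl), (∀ t ∈ F, t.card = s.card) →
      Set.InjOn (cprod S.hcl.comm) (F : Set (Finset ↥S.cl)) → F.card ≤ 23 := by
    intro F hF hinj
    choose f hf hfi using fun t : ↥F => key t.1 (hF t.1 t.2)
    have hinjf : Function.Injective f := fun t u q => Subtype.ext (hinj t.2 u.2 (by rw [← hfi, ← hfi, q]))
    rw [← S.ncard_Om, ← Nat.card_coe_set_eq, ← Nat.card_eq_finsetCard]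
    exact Nat.card_le_card_of_injective (fun t => (⟨f t, hf t⟩ : ↥S.Om))
      fun t u q => hinjf (congrArg Subtype.val q)
  have short := fun (p q : Finset ↥S.cl) (hp : p.card = 2) (hq : q.card = 2) e =>
    cprod_short S.hcl.comm h S.P.prim S.P.type22 S.hcl.sub (s := p) (t := q) (by omega) (by omega) (by omega)
      (by omega) e
  rcases (show s.card = 2 ∨ s.card = 3 by omega) with q | q
  · have := big (Finset.univ.powersetCard 2) (fun t ht => by rw [q]; exact (Finset.mem_powersetCard.1 ht).2)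
      fun t ht u hu e => short t u (Finset.mem_powersetCard.1 ht).2 (Finset.mem_powersetCard.1 hu).2 e
    rw [Finset.card_powersetCard, hι, show Nat.choose 22 2 = 231 by decide] at this
    omega
  · obtain ⟨a⟩ : Nonempty ↥S.cl := (Finset.card_pos.1 (by omega : 0 < s.card)).to_subtype.map (fun p => p.1)
    set F := (((Finset.univ : Finset ↥S.cl).erase a).powersetCard 2).image (insert a) with hF
    have hmem : ∀ {p}, p ∈ ((Finset.univ : Finset ↥S.cl).erase a).powersetCard 2 → p.card = 2 ∧ a ∉ p := by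
      intro p hp
      exact ⟨(Finset.mem_powersetCard.1 hp).2, fun ha => by simpa using (Finset.mem_powersetCard.1 hp).1 ha⟩
    have hsplit : ∀ p : Finset ↥S.cl, a ∉ p →
        cprod S.hcl.comm (insert a p) = cprod S.hcl.comm {a} * cprod S.hcl.comm p := fun p hp => by
      rw [Finset.insert_eq, cprod_union S.hcl.comm (by simpa using hp)]
    have hci : F.card = 210 := by
      rw [hF, Finset.card_image_of_injOn, Finset.card_powersetCard, Finset.card_erase_of_mem (Finset.mem_univ a), hι]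
      · decide
      · intro p hp p' hp' e
        exact short p p' (hmem hp).1 (hmem hp').1 (mul_left_cancel (a := cprod S.hcl.comm {a}) (by
          rw [← hsplit p (hmem hp).2, ← hsplit p' (hmem hp').2]; exact congrArg _ e))
    have := big F (fun t ht => by
        obtain ⟨p, hp, rfl⟩ := Finset.mem_image.1 ht
        rw [Finset.card_insert_of_notMem (hmem hp).2, (hmem hp).1, q]) (fun t ht u hu e => by
        obtain ⟨p, hp, rfl⟩ := Finset.mem_image.1 ht
        obtain ⟨p', hp', rfl⟩ := Finset.mem_image.1 hu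
        rw [hsplit p (hmem hp).2, hsplit p' (hmem hp').2] at e
        rw [short p p' (hmem hp).1 (hmem hp').1 (mul_left_cancel e)])
    omega

theorem om_surj {p : Q} (hp : p ∈ S.cl) : ∃ x ∈ S.Om, x ≠ d ∧ S.im x = p := by
  have h := S.P.geo
  obtain ⟨x, hx, hxd⟩ := S.exists_other
  obtain ⟨hc, hi⟩ := S.om_lift hx hxd
  obtain ⟨g, hg⟩ := h.conjD _ (S.hcl.sub hi) p (S.hcl.sub hp) (h.ne_one _ (S.hcl.sub hi)) (h.ne_one p (S.hcl.sub hp))
  obtain ⟨e, he, rfl⟩ := S.exists_lift g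
  have him : S.im (e * x * e⁻¹) = p := by rw [S.im_conj he hc, hg]
  refine ⟨e * x * e⁻¹, ⟨S.mem_A.2 ⟨(he.mul_left hc).mul_left he.inv_left, ?_⟩, conj_mem hx.2 e⟩, fun q => ?_, him⟩
  · rw [him]; exact Subgroup.subset_closure hp
  · rw [q, S.im_d] at him
    exact h.ne_one p (S.hcl.sub hp) him.symm

theorem om_image : S.im '' (S.Om \ {d}) = S.cl := by
  refine Set.Subset.antisymm ?_ fun p hp => ?_
  · rintro _ ⟨x, ⟨hx, hxd⟩, rfl⟩
    exact (S.om_lift hx hxd).2
  · obtain ⟨x, hx, hxd, e⟩ := S.om_surj hp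
    exact ⟨x, ⟨hx, hxd⟩, e⟩

theorem om_inj : Set.InjOn S.im (S.Om \ {d}) := by
  refine Set.injOn_of_ncard_image_eq ?_ (Set.toFinite _)
  rw [S.om_image, S.hcl.card, Set.ncard_sdiff_singleton_of_mem S.d_mem_Om, S.ncard_Om]

theorem nb_comm_d {x : G} (hx : x ∈ nb (conjugatesOf d) d) : Commute x d := hx.2.2.symm

theorem nb_move {x : G} (hx : x ∈ nb (conjugatesOf d) d) :
    ∃ c : G, Commute c d ∧ c * x * c⁻¹ ∈ S.Om ∧ c * x * c⁻¹ ≠ d := by
  have hxd := S.nb_comm_d hx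
  obtain ⟨c, hc⟩ := S.P.invol_into S.hcl (x := ⟨x, mem_C.2 hxd⟩) (Subtype.ext (S.sq_of_mem hx.1))
  refine ⟨c, mem_C.1 c.2, ⟨⟨_, hc, rfl⟩, conj_mem hx.1 c⟩, fun e => hx.2.1 ?_⟩
  calc x = (c : G)⁻¹ * ((c : G) * x * (c : G)⁻¹) * c := by group
    _ = (c : G)⁻¹ * (d * c) := by rw [e]; group
    _ = d := by rw [← (mem_C.1 c.2).eq, inv_mul_cancel_left]

theorem nb_im {x : G} (hx : x ∈ nb (conjugatesOf d) d) : S.im x ∈ E := by
  obtain ⟨c, hc, hm, hne⟩ := S.nb_move hx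
  have := S.hcl.sub (S.om_lift hm hne).2
  rw [S.im_conj hc (S.nb_comm_d hx)] at this
  have h2 := S.P.geo.tt.conj (S.im c)⁻¹ _ this
  simpa [mul_assoc] using h2

theorem nb_inj {x y : G} (hx : x ∈ nb (conjugatesOf d) d) (hy : y ∈ nb (conjugatesOf d) d)
    (e : S.im x = S.im y) : x = y := by
  obtain ⟨c, hc, hm, hne⟩ := S.nb_move hx
  have hyd := S.nb_comm_d hy
  have him : S.im (c * y * c⁻¹) = S.im (c * x * c⁻¹) := by
    rw [S.im_conj hc hyd, S.im_conj hc (S.nb_comm_d hx), e]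
  have hyne : c * y * c⁻¹ ≠ d := fun q => hy.2.1 (by
    have : c * y * c⁻¹ = c * d * c⁻¹ := by rw [q, hc.eq, mul_inv_cancel_right]
    exact mul_left_cancel (mul_right_cancel this))
  have hmy : c * y * c⁻¹ ∈ S.Om := ⟨S.mem_A.2 ⟨(hc.mul_left hyd).mul_left hc.inv_left,
    him ▸ (S.mem_A.1 hm.1).2⟩, conj_mem hy.1 c⟩
  exact (mul_left_cancel (mul_right_cancel (S.om_inj ⟨hmy, hyne⟩ ⟨hm, hne⟩ him))).symm

theorem nb_surj {p : Q} (hp : p ∈ E) : ∃ x ∈ nb (conjugatesOf d) d, S.im x = p := by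
  have h := S.P.geo
  obtain ⟨x, hx, hxd⟩ := S.exists_other
  obtain ⟨hc, hi⟩ := S.om_lift hx hxd
  obtain ⟨g, hg⟩ := h.conjD _ (S.hcl.sub hi) p hp (h.ne_one _ (S.hcl.sub hi)) (h.ne_one p hp)
  obtain ⟨e, he, rfl⟩ := S.exists_lift g
  refine ⟨e * x * e⁻¹, ⟨conj_mem hx.2 e, fun q => ?_, ((he.mul_left hc).mul_left he.inv_left).symm⟩,
    by rw [S.im_conj he hc, hg]⟩
  have : e * x * e⁻¹ = e * d * e⁻¹ := by rw [q, he.eq, mul_inv_cancel_right]
  exact hxd (mul_left_cancel (mul_right_cancel this))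

theorem ncard_nb : (nb (conjugatesOf d) d).ncard = 3510 := by
  obtain ⟨a, ha, -⟩ := S.P.geo.refl
  rw [← ncard_D S.P.geo ha]
  exact Set.ncard_congr (fun x _ => S.im x) (fun x hx => S.nb_im hx) (fun x y hx hy e => S.nb_inj hx hy e)
    fun p hp => by obtain ⟨x, hx, e⟩ := S.nb_surj hp; exact ⟨x, hx, e⟩

theorem nb_commute {x y : G} (hx : x ∈ nb (conjugatesOf d) d) (hy : y ∈ nb (conjugatesOf d) d) :
    Commute (S.im x) (S.im y) ↔ Commute x y := by
  have hxd := S.nb_comm_d hx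
  have hyd := S.nb_comm_d hy
  constructor
  · intro q
    have h1 := S.im_coe ⟨x, mem_C.2 hxd⟩
    have h2 := S.im_coe ⟨y, mem_C.2 hyd⟩
    have := S.P.lift_comm_and_sq.1 (y := ⟨x, mem_C.2 hxd⟩) (z := ⟨y, mem_C.2 hyd⟩)
      (h1 ▸ S.nb_im hx) (h2 ▸ S.nb_im hy) (by rw [← h1, ← h2]; exact q)
    exact congrArg Subtype.val this
  · intro q
    show S.im x * S.im y = S.im y * S.im x
    rw [← S.im_mul hxd hyd, ← S.im_mul hyd hxd, q.eq]

theorem nb_conj {g x : G} (hg : Commute g d) (hx : x ∈ nb (conjugatesOf d) d) :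
    g * x * g⁻¹ ∈ nb (conjugatesOf d) d := by
  refine ⟨conj_mem hx.1 g, fun q => hx.2.1 ?_, ((hg.mul_left (S.nb_comm_d hx)).mul_left hg.inv_left).symm⟩
  have : g * x * g⁻¹ = g * d * g⁻¹ := by rw [q, hg.eq, mul_inv_cancel_right]
  exact mul_left_cancel (mul_right_cancel this)

theorem nb_braid {x y : G} (hx : x ∈ nb (conjugatesOf d) d) (hy : y ∈ nb (conjugatesOf d) d)
    (hc : ¬ Commute x y) : x * y * x = y * x * y := by
  have hxd := S.nb_comm_d hx
  have hyd := S.nb_comm_d hy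
  have h1 := S.nb_conj hxd hy
  have h2 := S.nb_conj hyd hx
  rw [S.inv_of_mem hx.1] at h1
  rw [S.inv_of_mem hy.1] at h2
  refine S.nb_inj h1 h2 ?_
  rw [S.im_mul (hxd.mul_left hyd) hxd, S.im_mul hxd hyd, S.im_mul (hyd.mul_left hxd) hyd, S.im_mul hyd hxd]
  exact braid0 S.P.geo.tt (S.nb_im hx) (S.nb_im hy) fun q => hc ((S.nb_commute hx hy).1 q)

theorem nb_cube {x y : G} (hx : x ∈ nb (conjugatesOf d) d) (hy : y ∈ nb (conjugatesOf d) d)
    (hc : ¬ Commute x y) : (x * y) ^ 3 = 1 := by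
  have e := S.nb_braid hx hy hc
  have hxx := S.sq_of_mem hx.1
  have hyy := S.sq_of_mem hy.1
  calc (x * y) ^ 3 = (x * y * x) * (y * x * y) := by simp [pow_succ, mul_assoc]
    _ = (x * y * x) * (x * y * x) := by rw [← e]
    _ = x * y * (x * x) * y * x := by group
    _ = x * (y * y) * x := by rw [hxx]; group
    _ = 1 := by rw [hyy, mul_one, hxx]

/-- The centraliser is generated by the other members in it. -/
theorem hsub_eq : hsub (conjugatesOf d) d = Subgroup.centralizer ({d} : Set G) := by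
  refine le_antisymm ((Subgroup.closure_le _).2 fun x hx => mem_C.2 (S.nb_comm_d hx)) fun g hg => ?_
  set H : Subgroup ↥(Subgroup.centralizer ({d} : Set G)) := (hsub (conjugatesOf d) d).subgroupOf _
  have himg : H.map S.P.ψ = ⊤ := by
    rw [eq_top_iff, ← S.P.geo.class3.2.2]
    refine (Subgroup.closure_le _).2 fun p hp => ?_
    obtain ⟨x, hx, rfl⟩ := S.nb_surj hp
    exact ⟨⟨x, mem_C.2 (S.nb_comm_d hx)⟩, Subgroup.subset_closure hx, (S.im_coe ⟨x, _⟩).symm⟩
  have htop : H = ⊤ := by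
    rw [eq_top_iff, ← S.P.perfect, commutator_def, Subgroup.commutator_le]
    intro u _ v _
    obtain ⟨a, ha, ea⟩ := (himg.symm ▸ Subgroup.mem_top (S.P.ψ u) : S.P.ψ u ∈ H.map S.P.ψ)
    obtain ⟨b, hb, eb⟩ := (himg.symm ▸ Subgroup.mem_top (S.P.ψ v) : S.P.ψ v ∈ H.map S.P.ψ)
    have key : ∀ {a u w : ↥(Subgroup.centralizer ({d} : Set G))}, S.P.ψ a = S.P.ψ u →
        u * w * u⁻¹ = a * w * a⁻¹ := by
      intro a u w e
      rcases S.P.same_image e with rfl | rfl
      · rfl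
      · rw [mul_inv_rev, inv_eq_of_mul_eq_one_right S.P.z_sq]
        calc S.P.z * a * w * (a⁻¹ * S.P.z) = S.P.z * (a * w * a⁻¹) * S.P.z := by group
          _ = a * w * a⁻¹ := by rw [S.P.central, mul_assoc, S.P.z_sq, mul_one]
    have e1 : u * v * u⁻¹ * v⁻¹ = a * b * a⁻¹ * b⁻¹ :=
      calc u * v * u⁻¹ * v⁻¹ = a * (v * a⁻¹ * v⁻¹) := by rw [key ea]; group
        _ = a * b * a⁻¹ * b⁻¹ := by rw [key eb]; group
    rw [show ⁅u, v⁆ = u * v * u⁻¹ * v⁻¹ from rfl, e1]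
    exact H.mul_mem (H.mul_mem (H.mul_mem ha hb) (H.inv_mem ha)) (H.inv_mem hb)
  exact Subgroup.mem_subgroupOf.1 (htop ▸ Subgroup.mem_top (⟨g, hg⟩ : ↥(Subgroup.centralizer ({d} : Set G))))

end Setup

end CfsgLib.TC23
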