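import Cfsg.Agent.TC23.Eight
import Cfsg.Agent.Coset.O73.InFi22

/-!
The simple orthogonal group of dimension seven acts on the common neighbours of a far pair.
-/

set_option autoImplicit false
set_option linter.unusedSectionVars false
set_option linter.style.haveILetI false
set_option maxRecDepth 100000

namespace CfsgLib.TC23

open CfsgLib
open CfsgLib.ThreeT CfsgLib.ThreeT.Prod CfsgLib.DoubleM22
open CfsgLib.Coset (ev fl ev_cons ev_nil numHom numHom_fl range_numHom numGens)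

universe u

/-- The letters inside the larger diagram. -/
def to22 (l : Nat) : Nat := [1, 2, 3, 4, 5, 6, 7, 8].getD l 9

theorem o73_words : (Coset.O73.rels.all fun w => Coset.Fi22.rels.contains (w.map to22)) = true ∧
    (Coset.O73.rels.all fun w => w.all fun l => Nat.blt l 8) = true := by decide +kernel

variable {G : Type u} [Group G] [Finite G] {d : G} {Q : Type*} [Group Q] [Finite Q] {E : Set Q}

namespace Setup

variable (S : Setup d E) {x : G} (hx : x ∈ conjugatesOf d) (hdx : ¬ Commute d x)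

include S hx hdx

theorem exists_nine : ∃ w : Fin 8 → G, ∃ g : G, (∀ i, w i ∈ tri (conjugatesOf d) d x) ∧
    g ∈ nb (conjugatesOf d) d ∧ (∀ i j, i ≠ j → (Commute (w i) (w j) ↔ ¬ Adj8 i j)) ∧
    ∀ i, Commute g (w i) ↔ i ≠ 5 := by
  obtain ⟨w, p, hw, hpT, hwc, hpw⟩ := S.exists_eight hx hdx
  set W : Fin 8 → Q := fun i => S.im (w i) with hWdef
  have hW : ∀ i j, i ≠ j → (Commute (W i) (W j) ↔ ¬ Adj8 i j) := fun i j hij =>
    (S.nb_commute (hw i).1 (hw j).1).trans (hwc i j hij)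
  have hnbI : ∀ i, i ≠ 0 → Commute (W i) (W 0) → W i ∈ nb E (W 0) := by
    intro i hi hc
    refine ⟨S.nb_im (hw i).1, fun q => ?_, hc.symm⟩
    obtain ⟨k, hk⟩ : ∃ k, k ≠ i ∧ k ≠ 0 ∧ ((Adj8 i k ∧ ¬ Adj8 0 k) ∨ (Adj8 0 k ∧ ¬ Adj8 i k)) :=
      (by decide : ∀ i : Fin 8, i ≠ 0 → ∃ k, k ≠ i ∧ k ≠ 0 ∧ ((Adj8 i k ∧ ¬ Adj8 0 k) ∨ (Adj8 0 k ∧ ¬ Adj8 i k))) i hi
    rcases hk.2.2 with ⟨h1, h2⟩ | ⟨h1, h2⟩
    · exact (hW i k hk.1.symm).1 (q ▸ (hW 0 k hk.2.1.symm).2 h2) h1
    · exact (hW 0 k hk.2.1.symm).1 (q ▸ (hW i k hk.1.symm).2 h2) h1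
  set u : Fin 5 → Q := ![W 5, W 4, W 3, W 6, W 7] with hudef
  have hu : ∀ i, u i ∈ tri E (W 0) (W 1) := by
    intro i
    fin_cases i <;>
      exact ⟨hnbI _ (by decide) ((hW _ _ (by decide)).2 (by decide)), (hW _ _ (by decide)).2 (by decide)⟩
  have huc : ∀ i j, i ≠ j → (Commute (u i) (u j) ↔ ¬ Adj5 i j) := by
    intro i j hij
    fin_cases i <;> fin_cases j <;>
      first
        | exact absurd rfl hij
        | exact (hW _ _ (by decide)).trans (by decide)
  have hcu : ∀ j, Commute (W 2) (u j) ↔ j ≠ 2 := by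
    intro j
    fin_cases j <;> exact (hW _ _ (by decide)).trans (by decide)
  have hpc : ∀ i, Commute (S.im p) (W i) ↔ (i ≠ 1 ∧ i ≠ 2) := fun i =>
    (S.nb_commute hpT.1 (hw i).1).trans (hpw i)
  have hpa : S.im p ∈ nb E (W 0) := by
    refine ⟨S.nb_im hpT.1, fun q => ?_, ((hpc 0).2 (by decide)).symm⟩
    exact ((hpc 2).1 (q ▸ (hW 0 2 (by decide)).2 (by decide))).2 rfl
  obtain ⟨g', hg', hg'c, hside⟩ := extend22 S.P.geo S.P.prim S.P.type22 (S.nb_im (hw 0).1) (S.nb_im (hw 1).1)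
    (fun q => (hW 0 1 (by decide)).1 q (by decide)) hu huc (hnbI 2 (by decide) ((hW _ _ (by decide)).2 (by decide)))
    hcu hpa (fun j => by fin_cases j <;> exact (hpc _).2 (by decide)) (fun q => ((hpc 1).1 q).1 rfl)
  obtain ⟨G0, hG0, rfl⟩ := S.nb_surj hg'.1.1
  have back : ∀ i, Commute G0 (w i) ↔ Commute (S.im G0) (W i) := fun i => (S.nb_commute hG0 (hw i).1).symm
  have k0 : Commute (S.im G0) (W 0) := hg'.1.2.2.symm
  have k1 : Commute (S.im G0) (W 1) := hg'.2
  rcases hside with hs | hs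
  · refine ⟨w, G0, hw, hG0, hwc, fun i => ?_⟩
    rw [back]
    constructor
    · intro q e
      subst e
      exact (hs 0).1 q rfl
    · intro hi
      fin_cases i
      · exact k0
      · exact k1
      · exact hg'c
      · exact (hs 2).2 (by decide)
      · exact (hs 1).2 (by decide)
      · exact absurd rfl hi
      · exact (hs 3).2 (by decide)
      · exact (hs 4).2 (by decide)
  · refine ⟨w ∘ swap8, G0, fun i => hw _, hG0, fun i j hij => ?_, fun i => ?_⟩
    · exact (hwc _ _ (swap8_ne i j hij)).trans (not_congr (swap8_adj i j))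
    show Commute G0 (w (swap8 i)) ↔ _
    rw [back]
    constructor
    · intro q e
      subst e
      exact (hs 4).1 q rfl
    · intro hi
      fin_cases i
      · exact k0
      · exact k1
      · exact hg'c
      · exact (hs 2).2 (by decide)
      · exact (hs 3).2 (by decide)
      · exact absurd rfl hi
      · exact (hs 1).2 (by decide)
      · exact (hs 0).2 (by decide)

/-- The presented simple group maps injectively, its first generator to a common neighbour, and centralises the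
pair. -/
theorem exists_hom : ∃ φ : Coset.O73.P →* G, Function.Injective φ ∧
    φ (fl Coset.O73.Lp 0) ∈ tri (conjugatesOf d) d x ∧
    φ.range ≤ Subgroup.closure (tri (conjugatesOf d) d x) := by
  obtain ⟨w, g, hw, hg, hwc, hgw⟩ := S.exists_nine hx hdx
  set W : Fin 8 → Q := fun i => S.im (w i) with hWdef
  have hW : ∀ i j, i ≠ j → (Commute (W i) (W j) ↔ ¬ Adj8 i j) := fun i j hij =>
    (S.nb_commute (hw i).1 (hw j).1).trans (hwc i j hij)
  have cg : ∀ i, Commute (S.im g) (W i) ↔ i ≠ 5 := fun i => (S.nb_commute hg (hw i).1).trans (hgw i)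
  have cg' : ∀ i, Commute (W i) (S.im g) ↔ i ≠ 5 := fun i =>
    ⟨fun q => (cg i).1 q.symm, fun q => ((cg i).2 q).symm⟩
  have hne : ∀ i, i ≠ 0 → i ≠ 1 → W i ≠ W 0 := by
    intro i h0 h1 e
    obtain ⟨k, hk⟩ : ∃ k, k ≠ i ∧ k ≠ 0 ∧ ((Adj8 i k ∧ ¬ Adj8 0 k) ∨ (Adj8 0 k ∧ ¬ Adj8 i k)) :=
      (by decide : ∀ i : Fin 8, i ≠ 0 → ∃ k, k ≠ i ∧ k ≠ 0 ∧ ((Adj8 i k ∧ ¬ Adj8 0 k) ∨ (Adj8 0 k ∧ ¬ Adj8 i k))) i h0
    rcases hk.2.2 with ⟨a1, a2⟩ | ⟨a1, a2⟩
    · exact (hW i k hk.1.symm).1 (e ▸ (hW 0 k hk.2.1.symm).2 a2) a1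
    · exact (hW 0 k hk.2.1.symm).1 (e ▸ (hW i k hk.1.symm).2 a2) a1
  have hnbW : ∀ i, i ≠ 0 → i ≠ 1 → W i ∈ nb E (W 0) := fun i h0 h1 =>
    ⟨S.nb_im (hw i).1, hne i h0 h1,
      (hW 0 i h0.symm).2 ((by decide : ∀ i : Fin 8, i ≠ 0 → i ≠ 1 → ¬ Adj8 0 i) i h0 h1)⟩
  have hgn : S.im g ∈ nb E (W 0) :=
    ⟨S.nb_im hg, fun q => (cg 5).1 (q ▸ (hW 0 5 (by decide)).2 (by decide)) rfl, (cg' 0).2 (by decide)⟩
  set V : Fin 6 → Q := ![S.im g, W 5, W 4, W 3, W 6, W 7] with hVdef
  have hS : Seven E (W 0) (W 1) V (W 2) := by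
    refine ⟨fun q => (hW 0 1 (by decide)).1 q (by decide), S.nb_im (hw 0).1, S.nb_im (hw 1).1, ?_, ?_,
      hnbW 2 (by decide) (by decide), ?_, fun q => (hW 2 3 (by decide)).1 q (by decide)⟩
    · intro i
      fin_cases i
      · exact ⟨hgn, (cg 1).2 (by decide)⟩
      all_goals exact ⟨hnbW _ (by decide) (by decide), (hW _ _ (by decide)).2 (by decide)⟩
    · intro i j hij
      fin_cases i <;> fin_cases j <;>
        first
          | exact absurd rfl hij
          | exact (cg _).trans (by decide)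
          | exact (cg' _).trans (by decide)
          | exact (hW _ _ (by decide)).trans (by decide)
    · intro j hj
      fin_cases j
      · exact (cg' 2).2 (by decide)
      all_goals first
        | exact absurd rfl hj
        | exact (hW _ _ (by decide)).2 (by decide)
  obtain ⟨e22, he22⟩ := exists_iso_seven S.P.geo S.P.prim S.P.type22 hS
  set L : List G := [w 5, w 4, w 3, w 2, w 1, w 0, w 6, w 7] with hLdef
  have hLT : ∀ l < 8, fl L l ∈ tri (conjugatesOf d) d x := by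
    intro l hl
    interval_cases l
    exacts [hw 5, hw 4, hw 3, hw 2, hw 1, hw 0, hw 6, hw 7]
  have him : ∀ l < 8, S.im (fl L l) = e22 (fl Coset.Fi22.Lg (to22 l)) := by
    intro l hl
    rw [he22 (to22 l) (by interval_cases l <;> decide)]
    interval_cases l <;> rfl
  have hev : ∀ p : List Nat, (∀ l ∈ p, l < 8) → Commute (ev L p) d ∧ Commute (ev L p) x ∧
      S.im (ev L p) = e22 (ev Coset.Fi22.Lg (p.map to22)) := by
    intro p hp
    induction p with
    | nil => simp [S.im_one]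
    | cons k p ih =>
      have hk := hp k (by simp)
      obtain ⟨h1, h2, h3⟩ := ih fun i hi => hp i (List.mem_cons_of_mem _ hi)
      obtain ⟨⟨-, -, hkd⟩, hkx⟩ := hLT k hk
      rw [ev_cons, List.map_cons, ev_cons, map_mul, ← him k hk, ← h3]
      exact ⟨hkd.symm.mul_left h1, hkx.mul_left h2, S.im_mul hkd.symm h1⟩
  have hrels : ∀ p ∈ Coset.O73.rels, ev L p = 1 := by
    intro p hp
    have hp8 : ∀ l ∈ p, l < 8 := fun l hl => by
      have := List.all_eq_true.mp (List.all_eq_true.mp o73_words.2 p hp) l hl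
      simpa [Nat.blt_eq] using this
    obtain ⟨h1, h2, h3⟩ := hev p hp8
    rw [Coset.Fi22.ev_rels _ (List.contains_iff_mem.mp (List.all_eq_true.mp o73_words.1 p hp)), map_one] at h3
    rcases S.im_eq (Commute.one_left d) h1 (by rw [S.im_one, h3]) with e | e
    · exact e
    · exact absurd (by rw [e, mul_one] at h2; exact h2) hdx
  have hlen : L.length = 8 := rfl
  refine ⟨numHom hlen hrels, ?_, ?_, ?_⟩
  · haveI := Coset.O73.isSimple
    rw [← MonoidHom.ker_eq_bot_iff]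
    refine (numHom hlen hrels).normal_ker.eq_bot_or_eq_top.resolve_right fun q => ?_
    have h1 : numHom hlen hrels (fl Coset.O73.Lp 0) = 1 := MonoidHom.mem_ker.1 (q ▸ Subgroup.mem_top _)
    rw [numHom_fl] at h1
    exact S.ne_one_of_mem (hLT 0 (by norm_num)).1.1 h1
  · rw [numHom_fl]; exact hLT 0 (by norm_num)
  · rw [range_numHom]
    refine Subgroup.closure_mono fun y hy => ?_
    obtain ⟨l, hl, rfl⟩ := List.getElem_of_mem (hy : y ∈ L)
    have := hLT l (hlen ▸ hl)
    rwa [fl, List.getD_eq_getElem _ _ hl] at this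

end Setup

end CfsgLib.TC23
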